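import Mathlib
import Cfsg.Prelude.Def_GeometricClasses
import Cfsg.Agent.Lib.MaxSub.Subfield

/-!
Descent of absolutely irreducible groups realisable over a subfield: the normaliser lies in a subfield
group, and in odd dimension an invariant quadratic or unitary form is rational on the subfield structure.
-/

set_option autoImplicit false
set_option linter.unusedSectionVars false

namespace Cfsg.Agent.Lib.PrimeDim.FormDescent

open Matrix Cfsg.Geo
open scoped MatrixGroups Matrix

variable {ι : Type} [Fintype ι] [DecidableEq ι] {F : Type*} [Field F]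

/-- Every element of the matrix set has entries in the subfield after the change of basis. -/
def Rat0 (F₀ : Subfield F) (X : Matrix ι ι F) : Prop := ∀ i j, X i j ∈ F₀

/-- An entrywise subfield-valued linear functional equal to one at a given non-zero element. -/
theorem exists_functional (F₀ : Subfield F) {a : F} (ha : a ≠ 0) :
    ∃ φ : F →ₗ[F₀] F, φ a = 1 ∧ (∀ x, φ x ∈ F₀) ∧ ∀ (c x : F), c ∈ F₀ → φ (x * c) = φ x * c := by
  have hinj : LinearMap.ker (LinearMap.toSpanSingleton F₀ F a) = ⊥ := LinearMap.ker_toSpanSingleton F₀ ha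
  obtain ⟨g, hg⟩ := LinearMap.exists_leftInverse_of_injective _ hinj
  refine ⟨(Algebra.linearMap F₀ F).comp g, ?_, fun x => (g x).2, fun c x hc => ?_⟩
  · have h := LinearMap.congr_fun hg 1
    simp only [LinearMap.comp_apply, LinearMap.toSpanSingleton_apply, one_smul, LinearMap.id_apply] at h
    simp [h]
  · have e : x * c = (⟨c, hc⟩ : F₀) • x := by rw [Subfield.smul_def, smul_eq_mul, mul_comm]
    rw [e, map_smul, Subfield.smul_def, smul_eq_mul, mul_comm]

theorem map_mul_rat {F₀ : Subfield F} (φ : F →ₗ[F₀] F) (hφ : ∀ (c x : F), c ∈ F₀ → φ (x * c) = φ x * c)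
    (X : Matrix ι ι F) {q : Matrix ι ι F} (hq : Rat0 F₀ q) : (X * q).map φ = X.map φ * q := by
  ext i j
  simp only [Matrix.map_apply, Matrix.mul_apply, map_sum]
  exact Finset.sum_congr rfl fun k _ => hφ _ _ (hq k j)

theorem map_rat_mul {F₀ : Subfield F} (φ : F →ₗ[F₀] F) (hφ : ∀ (c x : F), c ∈ F₀ → φ (x * c) = φ x * c)
    (X : Matrix ι ι F) {q : Matrix ι ι F} (hq : Rat0 F₀ q) : (q * X).map φ = q * X.map φ := by
  ext i j
  simp only [Matrix.map_apply, Matrix.mul_apply, map_sum]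
  exact Finset.sum_congr rfl fun k _ => by rw [mul_comm, hφ _ _ (hq i k), mul_comm]

theorem exists_ne_entry [Nonempty ι] {X : Matrix ι ι F} (hX : IsUnit X) : ∃ i j, X i j ≠ 0 := by
  by_contra h
  simp only [not_exists, not_not] at h
  have : X = 0 := Matrix.ext h
  exact not_isUnit_zero (this ▸ hX)

section Sandwich

variable [Nonempty ι] (P : Subgroup (GL ι F))

/-- A normalising element is a scalar multiple of a rational matrix. -/
theorem mem_subfieldSubgroup_of_normalises (habs : ActsAbsolutelyIrreducibly (matrixSet P)) {F₀ : Subfield F}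
    {B : GL ι F} (hB : ∀ p ∈ P, Rat0 F₀ ((B : Matrix ι ι F) * (p : Matrix ι ι F) * ((B⁻¹ : GL ι F) : Matrix ι ι F))) {h : GL ι F}
    (hn : ∀ x ∈ P, h * x * h⁻¹ ∈ P) : h ∈ subfieldSubgroup F₀ B⁻¹ := by
  set h' : GL ι F := B * h * B⁻¹ with hh'
  obtain ⟨i₀, j₀, h0⟩ := exists_ne_entry h'.isUnit
  obtain ⟨φ, hφ1, hφr, hφ⟩ := exists_functional F₀ h0
  set Y : Matrix ι ι F := (h' : Matrix ι ι F).map φ with hY
  have hrat : ∀ p ∈ P, Rat0 F₀ ((B * p * B⁻¹ : GL ι F) : Matrix ι ι F) := fun p hp => by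
    simpa [Units.val_mul] using hB p hp
  have hYc : ∀ p ∈ P, ∀ q ∈ P, q * h = h * p →
      ((B * q * B⁻¹ : GL ι F) : Matrix ι ι F) * Y = Y * ((B * p * B⁻¹ : GL ι F) : Matrix ι ι F) := by
    intro p hp q hq hqp
    rw [hY, ← map_rat_mul φ hφ _ (hrat q hq), ← map_mul_rat φ hφ _ (hrat p hp), ← Units.val_mul, ← Units.val_mul,
      show B * q * B⁻¹ * h' = h' * (B * p * B⁻¹) by
        rw [hh']
        calc _ = B * (q * h) * B⁻¹ := by group
          _ = _ := by rw [hqp]; group]
  have key : ∀ p ∈ P,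
      ((h⁻¹ * B⁻¹ : GL ι F) : Matrix ι ι F) * Y * (B : Matrix ι ι F) * (p : Matrix ι ι F)
        = (p : Matrix ι ι F) * (((h⁻¹ * B⁻¹ : GL ι F) : Matrix ι ι F) * Y * (B : Matrix ι ι F)) := by
    intro p hp
    have e := hYc p hp _ (hn p hp) (by group)
    have a1 : h⁻¹ * B⁻¹ * (B * (h * p * h⁻¹) * B⁻¹) = p * (h⁻¹ * B⁻¹) := by group
    calc ((h⁻¹ * B⁻¹ : GL ι F) : Matrix ι ι F) * Y * (B : Matrix ι ι F) * (p : Matrix ι ι F)
        = ((h⁻¹ * B⁻¹ : GL ι F) : Matrix ι ι F) * (Y * ((B * p * B⁻¹ : GL ι F) : Matrix ι ι F)) *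
            (B : Matrix ι ι F) := by
          simp only [Units.val_mul, mul_assoc, Units.inv_mul, mul_one]
      _ = ((h⁻¹ * B⁻¹ * (B * (h * p * h⁻¹) * B⁻¹) : GL ι F) : Matrix ι ι F) * Y * (B : Matrix ι ι F) := by
          rw [← e, Units.val_mul (h⁻¹ * B⁻¹)]
          simp only [mul_assoc]
      _ = _ := by
          rw [a1, Units.val_mul p]
          simp only [mul_assoc]
  obtain ⟨c, hc⟩ := habs.2 _ (fun s hs => by obtain ⟨p, hp, rfl⟩ := hs; exact key p hp)
  have hYeq : Y = c • (h' : Matrix ι ι F) := by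
    have : Y = ((B * h : GL ι F) : Matrix ι ι F) * (c • 1) * ((B⁻¹ : GL ι F) : Matrix ι ι F) := by
      rw [← hc]
      simp only [← mul_assoc, ← Units.val_mul]
      rw [show B * h * h⁻¹ * B⁻¹ = 1 by group, Units.val_one, one_mul, mul_assoc, ← Units.val_mul, mul_inv_cancel,
        Units.val_one, mul_one]
    rw [this, Matrix.mul_smul, mul_one, Matrix.smul_mul, ← Units.val_mul]
  have hc0 : c ≠ 0 := by
    intro h0'
    have := congrFun (congrFun hYeq i₀) j₀
    simp [hY, h0', hφ1] at this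
  refine MaxSub.mem_subfieldSubgroup_of_lines fun x hx => ?_
  obtain ⟨v, hv, rfl⟩ := MaxSub.RatVec.eq_mulVec hx
  refine ⟨c⁻¹, ((B⁻¹ : GL ι F) : Matrix ι ι F) *ᵥ (Y *ᵥ v), (MaxSub.ratVec_mulVec _).mpr fun i => ?_, ?_⟩
  · simp only [Matrix.mulVec, dotProduct, hY, Matrix.map_apply]
    exact F₀.sum_mem fun j _ => F₀.mul_mem (hφr _) (hv j)
  · rw [hYeq, Matrix.smul_mulVec, Matrix.mulVec_smul, inv_smul_smul₀ hc0, Matrix.mulVec_mulVec,
      Matrix.mulVec_mulVec, ← Units.val_mul, ← Units.val_mul, show B⁻¹ * h' = h * B⁻¹ by rw [hh']; group]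

/-- An invariant sesquilinear Gram matrix is a scalar multiple of a rational matrix in rational coordinates. -/
theorem exists_smul_gram (σ : F →+* F) {F₀ : Subfield F} (hσ : ∀ a ∈ F₀, σ a ∈ F₀)
    (habs : ActsAbsolutelyIrreducibly (matrixSet P)) {B : GL ι F}
    (hB : ∀ p ∈ P, Rat0 F₀ ((B : Matrix ι ι F) * (p : Matrix ι ι F) * ((B⁻¹ : GL ι F) : Matrix ι ι F))) {G : Matrix ι ι F}
    (hG : IsUnit G)
    (hfix : ∀ p ∈ P, (p : Matrix ι ι F)ᵀ * G * (p : Matrix ι ι F).map σ = G) :
    ∃ c : F, c ≠ 0 ∧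
      Rat0 F₀ (c • (((B⁻¹ : GL ι F) : Matrix ι ι F)ᵀ * G * ((B⁻¹ : GL ι F) : Matrix ι ι F).map σ)) := by
  set b : Matrix ι ι F := (B : Matrix ι ι F)
  set b' : Matrix ι ι F := ((B⁻¹ : GL ι F) : Matrix ι ι F)
  set G' : Matrix ι ι F := b'ᵀ * G * b'.map σ with hG'
  have hbb : b * b' = 1 := by rw [← Units.val_mul, mul_inv_cancel, Units.val_one]
  have hb'b : b' * b = 1 := by rw [← Units.val_mul, inv_mul_cancel, Units.val_one]
  have hb'σ : b'.map σ * b.map σ = 1 := by rw [← Matrix.map_mul, hb'b, Matrix.map_one _ σ.map_zero σ.map_one]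
  have hG'u : IsUnit G' := by
    refine (IsUnit.mul ?_ hG).mul ?_
    · exact IsUnit.of_mul_eq_one bᵀ (by rw [← Matrix.transpose_mul, hbb, Matrix.transpose_one])
    · exact IsUnit.of_mul_eq_one (b.map σ) hb'σ
  have hfix' : ∀ p ∈ P, (b * (p : Matrix ι ι F) * b')ᵀ * G' * (b * (p : Matrix ι ι F) * b').map σ = G' := by
    intro p hp
    simp only [Matrix.transpose_mul, Matrix.map_mul, hG']
    calc b'ᵀ * ((p : Matrix ι ι F)ᵀ * bᵀ) * (b'ᵀ * G * b'.map σ) *
          (b.map σ * (p : Matrix ι ι F).map σ * b'.map σ)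
        = b'ᵀ * ((p : Matrix ι ι F)ᵀ * (bᵀ * b'ᵀ) * G * (b'.map σ * b.map σ) * (p : Matrix ι ι F).map σ) *
            b'.map σ := by simp only [mul_assoc]
      _ = b'ᵀ * G * b'.map σ := by
          rw [hb'σ, ← Matrix.transpose_mul, hb'b, Matrix.transpose_one, mul_one, mul_one, hfix p hp]
  obtain ⟨i₀, j₀, h0⟩ := exists_ne_entry hG'u
  obtain ⟨φ, hφ1, hφr, hφ⟩ := exists_functional F₀ h0
  set X := G'.map φ with hX
  have hXfix : ∀ p ∈ P, (b * (p : Matrix ι ι F) * b')ᵀ * X * (b * (p : Matrix ι ι F) * b').map σ = X := by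
    intro p hp
    have r1 : Rat0 F₀ (b * (p : Matrix ι ι F) * b')ᵀ := fun i j => hB p hp j i
    have r2 : Rat0 F₀ ((b * (p : Matrix ι ι F) * b').map σ) := fun i j => hσ _ (hB p hp i j)
    rw [hX, ← map_rat_mul φ hφ _ r1, ← map_mul_rat φ hφ _ r2, hfix' p hp]
  obtain ⟨U, hU⟩ := hG'u
  set M : Matrix ι ι F := X * (↑U⁻¹ : Matrix ι ι F) with hM
  have hMG : M * G' = X := by rw [hM, mul_assoc, ← hU, Units.inv_mul, mul_one]
  have key : ∀ p ∈ P, (b * (p : Matrix ι ι F) * b')ᵀ * M = M * (b * (p : Matrix ι ι F) * b')ᵀ := by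
    intro p hp
    have e1 : (b * (p : Matrix ι ι F) * b')ᵀ * M * (G' * (b * (p : Matrix ι ι F) * b').map σ) =
        M * (b * (p : Matrix ι ι F) * b')ᵀ * (G' * (b * (p : Matrix ι ι F) * b').map σ) := by
      calc _ = (b * (p : Matrix ι ι F) * b')ᵀ * (M * G') * (b * (p : Matrix ι ι F) * b').map σ := by simp only [mul_assoc]
        _ = M * G' := by rw [hMG, hXfix p hp]
        _ = M * ((b * (p : Matrix ι ι F) * b')ᵀ * G' * (b * (p : Matrix ι ι F) * b').map σ) := by rw [hfix' p hp]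
        _ = _ := by simp only [mul_assoc]
    refine IsUnit.mul_right_cancel ?_ e1
    refine (hU ▸ U.isUnit).mul (IsUnit.of_mul_eq_one ((b * ((p⁻¹ : GL ι F) : Matrix ι ι F) * b').map σ) ?_)
    rw [← Matrix.map_mul]
    have : b * (p : Matrix ι ι F) * b' * (b * ((p⁻¹ : GL ι F) : Matrix ι ι F) * b') = 1 := by
      rw [show b * (p : Matrix ι ι F) * b' * (b * ((p⁻¹ : GL ι F) : Matrix ι ι F) * b') =
        b * ((p : Matrix ι ι F) * (b' * b) * ((p⁻¹ : GL ι F) : Matrix ι ι F)) * b' from by simp only [mul_assoc],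
        hb'b, mul_one, ← Units.val_mul p, mul_inv_cancel, Units.val_one, mul_one, hbb]
    rw [this, Matrix.map_one _ σ.map_zero σ.map_one]
  obtain ⟨c, hc⟩ := habs.2 (b' * Mᵀ * b) fun s hs => by
    obtain ⟨p, hp, rfl⟩ := hs
    have e := congrArg Matrix.transpose (key p hp)
    simp only [Matrix.transpose_mul, Matrix.transpose_transpose] at e
    calc b' * Mᵀ * b * (p : Matrix ι ι F)
        = b' * (Mᵀ * (b * (p : Matrix ι ι F) * b')) * b := by simp only [mul_assoc, hb'b, mul_one]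
      _ = b' * ((b * (p : Matrix ι ι F) * b') * Mᵀ) * b := by rw [e]
      _ = _ := by rw [show b' * (b * (p : Matrix ι ι F) * b' * Mᵀ) * b =
          (b' * b) * (p : Matrix ι ι F) * (b' * Mᵀ * b) from by simp only [mul_assoc], hb'b, one_mul]
  have hMc : M = c • 1 := by
    have : Mᵀ = b * (b' * Mᵀ * b) * b' := by
      rw [show b * (b' * Mᵀ * b) * b' = (b * b') * Mᵀ * (b * b') from by simp only [mul_assoc], hbb, one_mul, mul_one]
    rw [hc, Matrix.mul_smul, mul_one, Matrix.smul_mul, hbb] at this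
    rw [← Matrix.transpose_transpose M, this, Matrix.transpose_smul, Matrix.transpose_one]
  rw [hMc, Matrix.smul_mul, one_mul] at hMG
  refine ⟨c, fun h => ?_, fun i j => ?_⟩
  · have := congrFun (congrFun hMG i₀) j₀
    simp [hX, h, hφ1] at this
  · rw [hMG]; exact hφr _

end Sandwich

section Forms

/-- The change of basis by a non-zero scalar. -/
theorem exists_scaled (B : GL ι F) {s : F} (hs : s ≠ 0) :
    ∃ B' : GL ι F, (B' : Matrix ι ι F) = s • (B : Matrix ι ι F) ∧
      ∀ F₀ : Subfield F, subfieldSubgroup F₀ B' = subfieldSubgroup F₀ B := by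
  refine ⟨B * Units.map (Matrix.scalar ι : F →+* Matrix ι ι F).toMonoidHom (Units.mk0 s hs), ?_, fun F₀ => ?_⟩
  · rw [Units.val_mul]
    show (B : Matrix ι ι F) * Matrix.scalar ι s = _
    rw [Matrix.scalar_apply, ← Matrix.smul_one_eq_diagonal, Matrix.mul_smul, mul_one]
  · set z : GL ι F := Units.map (Matrix.scalar ι : F →+* Matrix ι ι F).toMonoidHom (Units.mk0 s hs)
    have hz : ∀ g : GL ι F, z * g = g * z := fun g => Units.ext
      (Matrix.scalar_comm s (fun r => mul_comm s r) (g : Matrix ι ι F))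
    have : MulAut.conj (B * z) = MulAut.conj B := by
      ext1 g
      simp only [MulAut.conj_apply, _root_.mul_inv_rev]
      rw [show B * z * g * (z⁻¹ * B⁻¹) = B * (z * g) * z⁻¹ * B⁻¹ by group, hz]
      group
    rw [subfieldSubgroup, subfieldSubgroup, this]

/-- A bilinear or sesquilinear form is given by its Gram matrix. -/
theorem form_eq (σ : F →+* F) (f : (ι → F) → (ι → F) → F) (al : ∀ x y v, f (x + y) v = f x v + f y v)
    (sl : ∀ (c : F) x v, f (c • x) v = c * f x v) (ar : ∀ v x y, f v (x + y) = f v x + f v y)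
    (sr : ∀ (c : F) v x, f v (c • x) = σ c * f v x) (u v : ι → F) :
    f u v = ∑ i, ∑ j, u i * gramMatrix f i j * σ (v j) := by
  have z1 : ∀ w, f 0 w = 0 := fun w => by simpa using sl 0 0 w
  have z2 : ∀ w, f w 0 = 0 := fun w => by simpa using sr 0 w 0
  let L : (ι → F) →+ F := { toFun := fun x => f x v, map_zero' := z1 v, map_add' := fun x y => al x y v }
  have hu : u = ∑ i, u i • Pi.single i (1 : F) := pi_eq_sum_univ' u
  have h1 : f u v = ∑ i, u i * f (Pi.single i 1) v := by
    conv_lhs => rw [hu]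
    exact (map_sum L _ _).trans (Finset.sum_congr rfl fun i _ => sl _ _ _)
  rw [h1]
  refine Finset.sum_congr rfl fun i _ => ?_
  let R : (ι → F) →+ F := { toFun := fun x => f (Pi.single i 1) x, map_zero' := z2 _, map_add' := ar _ }
  have hv : v = ∑ j, v j • Pi.single j (1 : F) := pi_eq_sum_univ' v
  conv_lhs => rw [hv]
  rw [show f (Pi.single i 1) (∑ j, v j • Pi.single j (1 : F)) = R (∑ j, v j • Pi.single j (1 : F)) from rfl,
    map_sum, Finset.mul_sum]
  exact Finset.sum_congr rfl fun j _ => by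
    show u i * f (Pi.single i 1) (v j • Pi.single j (1 : F)) = _
    rw [sr]; simp only [gramMatrix]; ring

theorem gram_congr (σ : F →+* F) (f : (ι → F) → (ι → F) → F)
    (hform : ∀ u v, f u v = ∑ i, ∑ j, u i * gramMatrix f i j * σ (v j)) (M : Matrix ι ι F) (u v : ι → F) :
    f (M *ᵥ u) (M *ᵥ v) = u ⬝ᵥ (Mᵀ * gramMatrix f * M.map σ) *ᵥ (σ ∘ v) := by
  have h : f (M *ᵥ u) (M *ᵥ v) = (M *ᵥ u) ⬝ᵥ gramMatrix f *ᵥ (σ ∘ (M *ᵥ v)) := by
    rw [hform]
    simp only [dotProduct, Matrix.mulVec, Function.comp_apply, Finset.mul_sum, mul_assoc]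
  have h2 : σ ∘ (M *ᵥ v) = M.map σ *ᵥ (σ ∘ v) := by
    funext i
    exact RingHom.map_mulVec σ M v i
  rw [h, h2, Matrix.mulVec_mulVec, ← Matrix.vecMul_transpose, ← Matrix.dotProduct_mulVec, Matrix.mulVec_mulVec,
    mul_assoc]

theorem gram_isUnit (σ : F →+* F) (f : (ι → F) → (ι → F) → F)
    (hform : ∀ u v, f u v = ∑ i, ∑ j, u i * gramMatrix f i j * σ (v j)) (hnd : IsNondegenerateForm f) :
    IsUnit (gramMatrix f) := by
  rw [← Matrix.vecMul_injective_iff_isUnit]
  intro x y hxy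
  rw [← sub_eq_zero]
  by_contra hne
  obtain ⟨-, w, hw⟩ := hnd _ hne
  apply hw
  rw [hform, Finset.sum_comm]
  refine Finset.sum_eq_zero fun j _ => ?_
  rw [← Finset.sum_mul]
  have h := congrFun (show (x - y) ᵥ* gramMatrix f = 0 by rw [Matrix.sub_vecMul]; exact sub_eq_zero.2 hxy) j
  simp only [Matrix.vecMul, dotProduct, Pi.zero_apply] at h
  rw [h, zero_mul]

theorem fixes_gram (σ : F →+* F) (f : (ι → F) → (ι → F) → F)
    (hform : ∀ u v, f u v = ∑ i, ∑ j, u i * gramMatrix f i j * σ (v j)) {P : Subgroup (GL ι F)}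
    (hfix : FixesForm (matrixSet P) f) :
    ∀ p ∈ P, (p : Matrix ι ι F)ᵀ * gramMatrix f * (p : Matrix ι ι F).map σ = gramMatrix f := by
  intro p hp
  ext i j
  have h := hfix _ ⟨p, hp, rfl⟩ (Pi.single i 1) (Pi.single j 1)
  rw [gram_congr σ f hform] at h
  have e : σ ∘ (Pi.single j (1 : F) : ι → F) = Pi.single j 1 := by
    funext k
    rw [Function.comp_apply]
    rcases eq_or_ne k j with rfl | hk <;> simp [*]
  rw [e, single_dotProduct, one_mul, Matrix.mulVec_single_one] at h
  exact h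

theorem rat_value (σ : F →+* F) {F₀ : Subfield F} (hσ : ∀ a ∈ F₀, σ a ∈ F₀) (f : (ι → F) → (ι → F) → F)
    (hform : ∀ u v, f u v = ∑ i, ∑ j, u i * gramMatrix f i j * σ (v j)) (M : Matrix ι ι F)
    (hR : Rat0 F₀ (Mᵀ * gramMatrix f * M.map σ)) {u v : ι → F} (hu : ∀ i, u i ∈ F₀) (hv : ∀ i, v i ∈ F₀) :
    f (M *ᵥ u) (M *ᵥ v) ∈ F₀ := by
  rw [gram_congr σ f hform]
  exact F₀.sum_mem fun i _ => F₀.mul_mem (hu i) (F₀.sum_mem fun j _ => F₀.mul_mem (hR i j) (hσ _ (hv j)))

theorem det_mem {F₀ : Subfield F} {X : Matrix ι ι F} (hX : Rat0 F₀ X) : X.det ∈ F₀ := by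
  rw [Matrix.det_apply]
  exact F₀.sum_mem fun π _ => zsmul_mem (F₀.prod_mem fun i _ => hX _ _) _

/-- Quadratic forms: in odd dimension the form is rational on the subfield structure. -/
theorem exists_quad_structure [Nonempty ι] (hodd : Odd (Fintype.card ι)) (h2 : (2 : F) ≠ 0)
    {Q : (ι → F) → F} (hQ : IsNondegenerateQuadraticForm Q) {F₀ : Subfield F}
    (hd : (gramMatrix (QuadraticMap.polar Q)).det ∈ F₀) {P : Subgroup (GL ι F)}
    (habs : ActsAbsolutelyIrreducibly (matrixSet P)) (hfix : FixesQuadForm (matrixSet P) Q)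
    (hreal : RealisableOver F₀ (matrixSet P)) :
    ∃ B' : GL ι F, IsQuadFormRationalStructure Q F₀ B' ∧
      ∀ h : GL ι F, (∀ x ∈ P, h * x * h⁻¹ ∈ P) → h ∈ subfieldSubgroup F₀ B' := by
  obtain ⟨B, hB⟩ := hreal
  have hB' : ∀ p ∈ P, Rat0 F₀ ((B : Matrix ι ι F) * (p : Matrix ι ι F) * ((B⁻¹ : GL ι F) : Matrix ι ι F)) :=
    fun p hp => hB _ ⟨p, hp, rfl⟩
  set f := QuadraticMap.polar Q with hf
  have hb := hQ.polar_bilinear
  have hform := form_eq (RingHom.id F) f hb.add_left hb.smul_left hb.add_right hb.smul_right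
  have hfixf : FixesForm (matrixSet P) f := fun s hs u v => by
    simp only [hf, QuadraticMap.polar, ← Matrix.mulVec_add, hfix s hs]
  have hu := gram_isUnit _ f hform hQ.nondegenerate
  obtain ⟨c, hc, hcr⟩ := exists_smul_gram P (RingHom.id F) (fun a ha => ha) habs hB' hu
    (fixes_gram _ f hform hfixf)
  set b' : Matrix ι ι F := ((B⁻¹ : GL ι F) : Matrix ι ι F)
  have hid : b'.map (RingHom.id F) = b' := by ext; rfl
  rw [hid] at hcr
  obtain ⟨m, hm⟩ := hodd
  have hdet : (c • (b'ᵀ * gramMatrix f * b')).det ∈ F₀ := det_mem hcr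
  rw [Matrix.det_smul, Matrix.det_mul, Matrix.det_mul, Matrix.det_transpose, hm] at hdet
  have hd0 : (gramMatrix f).det ≠ 0 := ((Matrix.isUnit_iff_isUnit_det _).1 hu).ne_zero
  have hb0 : b'.det ≠ 0 := ((Matrix.isUnit_iff_isUnit_det _).1 (B⁻¹).isUnit).ne_zero
  set s : F := (c ^ m * b'.det)⁻¹ with hs
  have hs0 : s ≠ 0 := inv_ne_zero (mul_ne_zero (pow_ne_zero _ hc) hb0)
  obtain ⟨B', hB'e, hB's⟩ := exists_scaled B⁻¹ hs0
  refine ⟨B', fun u hu' => ?_, fun h hn => hB's F₀ ▸ mem_subfieldSubgroup_of_normalises P habs hB' hn⟩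
  have hν : s ^ 2 / c ∈ F₀ := by
    have e : s ^ 2 / c = (gramMatrix f).det / (c ^ (2 * m + 1) * (b'.det * (gramMatrix f).det * b'.det)) := by
      rw [hs]; field_simp; ring
    rw [e]
    exact F₀.div_mem hd hdet
  have hR : Rat0 F₀ ((B' : Matrix ι ι F)ᵀ * gramMatrix f * (B' : Matrix ι ι F).map (RingHom.id F)) := by
    intro i j
    have e : (B' : Matrix ι ι F)ᵀ * gramMatrix f * (B' : Matrix ι ι F).map (RingHom.id F) =
        (s ^ 2 / c) • (c • (b'ᵀ * gramMatrix f * b')) := by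
      have hmid : (B' : Matrix ι ι F).map (RingHom.id F) = (B' : Matrix ι ι F) := by ext; rfl
      rw [hmid, hB'e, Matrix.transpose_smul, Matrix.smul_mul, Matrix.smul_mul, Matrix.mul_smul, smul_smul, smul_smul,
        div_mul_cancel₀ _ hc, pow_two]
    rw [e]
    exact F₀.mul_mem hν (hcr i j)
  have hv := rat_value (RingHom.id F) (fun a ha => ha) f hform _ hR hu' hu'
  have h2Q : f ((B' : Matrix ι ι F) *ᵥ u) ((B' : Matrix ι ι F) *ᵥ u) = 2 * Q ((B' : Matrix ι ι F) *ᵥ u) := by
    simp only [hf, QuadraticMap.polar]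
    rw [← two_smul F, hQ.smul]; ring
  rw [h2Q] at hv
  have := F₀.div_mem hv (natCast_mem F₀ 2)
  rwa [Nat.cast_ofNat, mul_div_cancel_left₀ _ h2] at this

/-- In a finite field every element fixed by an involutive automorphism is a norm. -/
theorem exists_norm [Finite F] (σ : F ≃+* F) (hne : σ ≠ RingEquiv.refl F) (hinv : ∀ a, σ (σ a) = a) {a : F}
    (ha0 : a ≠ 0) (ha : σ a = a) : ∃ s : F, s ≠ 0 ∧ s * σ s = a := by
  let τ : Fˣ →* Fˣ := Units.map (σ : F →+* F).toMonoidHom
  have hτ : ∀ x : Fˣ, (τ x : F) = σ x := fun _ => rfl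
  let N : Fˣ →* Fˣ := MonoidHom.id Fˣ * τ
  let D : Fˣ →* Fˣ := τ * (MonoidHom.id Fˣ)⁻¹
  have hNv : ∀ x, (N x : F) = x * σ x := fun _ => rfl
  have hDv : ∀ x, (D x : F) = σ x * (x : F)⁻¹ := fun x => by
    show ((τ x * x⁻¹ : Fˣ) : F) = _
    rw [Units.val_mul, Units.val_inv_eq_inv_val, hτ]
  have hle : N.range ≤ D.ker := by
    rintro _ ⟨x, rfl⟩
    refine MonoidHom.mem_ker.2 (Units.ext ?_)
    rw [hDv, hNv, map_mul, hinv, mul_comm (σ x)]
    exact mul_inv_cancel₀ (mul_ne_zero x.ne_zero (by simp))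
  have hker : N.ker ≤ D.range := by
    intro x hx
    have hx1 : (x : F) * σ x = 1 := by rw [← hNv, MonoidHom.mem_ker.1 hx, Units.val_one]
    have key : ∀ y : F, σ (y + σ y * σ x) = x * (y + σ y * σ x) := fun y => by
      rw [map_add, map_mul, hinv, hinv]
      linear_combination -(σ y) * hx1
    obtain ⟨y, hy⟩ : ∃ y : F, y + σ y * σ (x : F) ≠ 0 := by
      by_contra hall
      simp only [not_exists, not_not] at hall
      have h1 := hall 1
      rw [map_one, one_mul] at h1
      apply hne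
      ext y
      have h2 := hall y
      show σ y = y
      linear_combination -h2 + (σ y) * h1
    refine ⟨Units.mk0 _ hy, Units.ext ?_⟩
    rw [hDv, Units.val_mk0, key, mul_assoc, mul_inv_cancel₀ hy, mul_one]
  have hcard : Nat.card D.ker ≤ Nat.card N.range := by
    have e1 : Nat.card N.range * Nat.card N.ker = Nat.card Fˣ := by
      rw [← Subgroup.index_ker]; exact Subgroup.index_mul_card _
    have e2 : Nat.card D.range * Nat.card D.ker = Nat.card Fˣ := by
      rw [← Subgroup.index_ker]; exact Subgroup.index_mul_card _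
    have e3 : Nat.card N.ker ≤ Nat.card D.range := Subgroup.card_le_of_le hker
    have e4 : 0 < Nat.card N.ker := Nat.card_pos
    by_contra hlt
    have : Nat.card N.range * Nat.card N.ker < Nat.card D.range * Nat.card D.ker :=
      (Nat.mul_lt_mul_of_lt_of_le (Nat.lt_of_not_le hlt) e3 (e4.trans_le e3)).trans_eq (mul_comm _ _)
    omega
  have heq : N.range = D.ker := Subgroup.eq_of_le_of_card_ge hle hcard
  have hmem : Units.mk0 a ha0 ∈ D.ker := by
    refine MonoidHom.mem_ker.2 (Units.ext ?_)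
    rw [hDv, Units.val_mk0, ha, mul_inv_cancel₀ ha0, Units.val_one]
  rw [← heq] at hmem
  obtain ⟨s, hs⟩ := hmem
  exact ⟨s, s.ne_zero, by rw [← hNv, hs, Units.val_mk0]⟩

/-- Membership in a subfield of a finite field. -/
theorem mem_iff_pow [Finite F] (F₀ : Subfield F) (c : F) : c ∈ F₀ ↔ c ^ Nat.card F₀ = c := by
  classical
  letI : Fintype F₀ := Fintype.ofFinite F₀
  rw [Nat.card_eq_fintype_card]
  constructor
  · intro hc; exact congrArg Subtype.val (FiniteField.pow_card (⟨c, hc⟩ : F₀))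
  intro hc
  by_contra hne
  have h1 : 1 < Fintype.card F₀ := Fintype.one_lt_card
  set S := insert c ((Finset.univ : Finset F₀).map ⟨Subtype.val, Subtype.val_injective⟩) with hS
  have hsub : S.val ⊆ ((Polynomial.X : Polynomial F) ^ Fintype.card F₀ - Polynomial.X).roots := by
    intro b hb
    rw [Polynomial.mem_roots (FiniteField.X_pow_card_sub_X_ne_zero F h1), Polynomial.IsRoot, Polynomial.eval_sub,
      Polynomial.eval_pow, Polynomial.eval_X, sub_eq_zero]
    rcases Finset.mem_insert.1 (show b ∈ S from hb) with rfl | hb'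
    · exact hc
    · obtain ⟨e, -, rfl⟩ := Finset.mem_map.1 hb'
      exact congrArg Subtype.val (FiniteField.pow_card e)
  have h := Polynomial.card_le_degree_of_subset_roots hsub
  rw [hS, Finset.card_insert_of_notMem (by simpa using hne), Finset.card_map, Finset.card_univ,
    FiniteField.X_pow_card_sub_X_natDegree_eq F h1] at h
  omega

theorem map_mem [Finite F] (F₀ : Subfield F) (σ : F →+* F) {a : F} (ha : a ∈ F₀) : σ a ∈ F₀ := by
  rw [mem_iff_pow] at ha ⊢
  rw [← map_pow, ha]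

/-- The determinant of an alternating matrix of odd size in characteristic two vanishes. -/
theorem det_alt_char_two (h2 : (2 : F) = 0) (hodd : Odd (Fintype.card ι)) (X : Matrix ι ι F) (hX : Xᵀ = X)
    (hd : ∀ i, X i i = 0) : X.det = 0 := by
  rw [Matrix.det_apply]
  have hneg : ∀ y : F, -y = y := fun y => by linear_combination (-y) * h2
  have hterm : ∀ π : Equiv.Perm ι, Equiv.Perm.sign π • ∏ i, X (π i) i = ∏ i, X (π i) i := fun π => by
    rcases Int.units_eq_one_or (Equiv.Perm.sign π) with h | h <;> rw [h]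
    · rw [one_smul]
    · rw [Units.neg_smul, one_smul, hneg]
  simp only [hterm]
  refine Finset.sum_involution (fun π _ => π⁻¹) (fun π _ => ?_) (fun π _ hπ hinv => ?_)
    (fun _ _ => Finset.mem_univ _) (fun π _ => inv_inv π)
  · have : ∏ i, X (π⁻¹ i) i = ∏ i, X (π i) i := by
      rw [← Equiv.prod_comp π fun i => X (π⁻¹ i) i]
      refine Finset.prod_congr rfl fun i _ => ?_
      rw [← Equiv.Perm.mul_apply, inv_mul_cancel, Equiv.Perm.one_apply]
      conv_lhs => rw [← hX, Matrix.transpose_apply]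
    rw [this]
    linear_combination (∏ i, X (π i) i) * h2
  · apply hπ
    obtain ⟨i, hi⟩ : ∃ i, π i = i := by
      by_contra hno
      simp only [not_exists] at hno
      have hsq : π ^ 2 ^ 1 = 1 := by
        rw [pow_one, pow_two]
        nth_rewrite 1 [← hinv]
        exact inv_mul_cancel π
      haveI : Fact (Nat.Prime 2) := ⟨Nat.prime_two⟩
      have h0 : ¬ 2 ∣ Fintype.card ι := by obtain ⟨m, hm⟩ := hodd; omega
      obtain ⟨i, hi⟩ := Equiv.Perm.exists_fixed_point_of_prime h0 hsq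
      exact hno i hi
    exact Finset.prod_eq_zero (Finset.mem_univ i) (by rw [hi, hd])

/-- In characteristic two a symmetric double sum reduces to its diagonal. -/
theorem sum_sym_diag (h2 : (2 : F) = 0) {g : ι → ι → F} (hg : ∀ k l, g k l = g l k) :
    ∑ k, ∑ l, g k l = ∑ k, g k k := by
  rw [← Finset.sum_product', ← Finset.sum_filter_add_sum_filter_not _ (fun x : ι × ι => x.1 = x.2)]
  have h0 : ∑ x ∈ (Finset.univ ×ˢ Finset.univ).filter (fun x : ι × ι => ¬ x.1 = x.2), g x.1 x.2 = 0 := by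
    refine Finset.sum_involution (fun x _ => (x.2, x.1)) (fun x _ => ?_) (fun x hx _ h => ?_) (fun x hx => ?_)
      (fun x _ => rfl)
    · show g x.1 x.2 + g x.2 x.1 = 0
      rw [← hg x.1 x.2]
      linear_combination (g x.1 x.2) * h2
    · exact (Finset.mem_filter.1 hx).2 (congrArg Prod.snd h)
    · simpa [eq_comm] using hx
  rw [h0, add_zero]
  refine (Finset.sum_bij (fun k _ => (k, k)) ?_ ?_ ?_ ?_).symm
  · simp
  · intro a _ b _ h; exact congrArg Prod.fst h
  · rintro ⟨a, b⟩ hab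
    simp only [Finset.mem_filter] at hab
    exact ⟨a, Finset.mem_univ _, Prod.ext rfl hab.2⟩
  · simp

/-- In characteristic two an absolutely irreducible group in odd dimension fixes no symmetric invertible
matrix. -/
theorem two_ne_zero_of_symm [Nonempty ι] [Finite F] (hodd : Odd (Fintype.card ι)) (hcard : 1 < Fintype.card ι)
    (S : Set (Matrix ι ι F)) (habs : ActsIrreducibly S) {R : Matrix ι ι F} (hR : IsUnit R) (hsym : Rᵀ = R)
    (hfix : ∀ s ∈ S, sᵀ * R * s = R) : (2 : F) ≠ 0 := by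
  intro h2
  haveI : CharP F 2 := CharTwo.of_one_ne_zero_of_two_eq_zero one_ne_zero h2
  haveI : ExpChar F 2 := ExpChar.prime Nat.prime_two
  haveI : PerfectRing F 2 := PerfectRing.ofFiniteOfIsReduced 2 F
  let r : F → F := fun x => (frobeniusEquiv F 2).symm x
  have hr : ∀ x, r x ^ 2 = x := fun x => frobeniusEquiv_symm_pow_p F 2 x
  let w : ι → F := fun i => r (R i i)
  have hw : w ≠ 0 := by
    intro hw0
    have hd : ∀ i, R i i = 0 := fun i => by
      have := congrFun hw0 i
      rw [← hr (R i i)]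
      show (w i) ^ 2 = 0
      rw [this]; simp
    exact ((Matrix.isUnit_iff_isUnit_det _).1 hR).ne_zero (det_alt_char_two h2 hodd R hsym hd)
  have hinv : ∀ s ∈ S, w ᵥ* s = w := by
    intro s hs
    funext i
    have hsq : ∀ x y : F, x ^ 2 = y ^ 2 → x = y := fun x y h => (frobenius_inj F 2) h
    apply hsq
    have e := congrFun (congrFun (hfix s hs) i) i
    show (∑ k, w k * s k i) ^ 2 = (r (R i i)) ^ 2
    rw [hr, CharTwo.sum_sq]
    rw [← e, mul_assoc, Matrix.mul_apply]
    simp only [Matrix.transpose_apply, Matrix.mul_apply, Finset.mul_sum]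
    rw [sum_sym_diag h2 fun k l => by rw [show R l k = R k l by rw [← congrFun (congrFun hsym k) l, Matrix.transpose_apply]]; ring]
    refine Finset.sum_congr rfl fun k _ => ?_
    rw [mul_pow, hr]
    ring
  let W : Submodule F (ι → F) := LinearMap.ker (dotProductBilin F F w)
  have hW : ∀ v, v ∈ W ↔ w ⬝ᵥ v = 0 := fun v => Iff.rfl
  rcases habs W (fun s hs => by
    rintro _ ⟨v, hv, rfl⟩
    rw [hW, Matrix.toLin'_apply, Matrix.dotProduct_mulVec, hinv s hs]
    exact hv) with h | h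
  · have hinj : Function.Injective (dotProductBilin F F w) := LinearMap.ker_eq_bot.1 h
    have := LinearMap.finrank_le_finrank_of_injective hinj
    rw [Module.finrank_fintype_fun_eq_card, Module.finrank_self] at this
    omega
  · apply hw
    funext i
    have := (hW _).1 (h ▸ Submodule.mem_top : (Pi.single i 1 : ι → F) ∈ W)
    simpa using this

/-- Unitary forms: in odd dimension the form is rational on the subfield structure. -/
theorem exists_unitary_structure [Nonempty ι] [Finite F] (hodd : Odd (Fintype.card ι))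
    (hcard : 1 < Fintype.card ι) {σ : F ≃+* F} {f : (ι → F) → (ι → F) → F} (hf : IsUnitaryForm σ f)
    {F₀ : Subfield F} {P : Subgroup (GL ι F)}
    (habs : ActsAbsolutelyIrreducibly (matrixSet P)) (hfix : FixesForm (matrixSet P) f)
    (hreal : RealisableOver F₀ (matrixSet P)) :
    ∃ B' : GL ι F, IsFormRationalStructure f F₀ 1 B' ∧
      (∀ h : GL ι F, (∀ x ∈ P, h * x * h⁻¹ ∈ P) → h ∈ subfieldSubgroup F₀ B') ∧
      ((∀ a ∈ F₀, σ a = a) → (2 : F) ≠ 0) := by
  obtain ⟨B, hB⟩ := hreal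
  have hB' : ∀ p ∈ P, Rat0 F₀ ((B : Matrix ι ι F) * (p : Matrix ι ι F) * ((B⁻¹ : GL ι F) : Matrix ι ι F)) :=
    fun p hp => hB _ ⟨p, hp, rfl⟩
  set σ' : F →+* F := (σ : F →+* F)
  have hσv : ∀ a, σ' a = σ a := fun _ => rfl
  have ar : ∀ v x y, f v (x + y) = f v x + f v y := fun v x y => by
    rw [hf.herm, hf.add_left, map_add, ← hf.herm, ← hf.herm]
  have sr : ∀ (c : F) v x, f v (c • x) = σ' c * f v x := fun c v x => by
    rw [hf.herm, hf.smul_left, map_mul, ← hf.herm, hσv]
  have hform := form_eq σ' f hf.add_left hf.smul_left ar sr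
  have hu := gram_isUnit σ' f hform hf.nondegenerate
  have hσF : ∀ a ∈ F₀, σ' a ∈ F₀ := fun a ha => map_mem F₀ σ' ha
  obtain ⟨c, hc, hcr⟩ := exists_smul_gram P σ' hσF habs hB' hu (fixes_gram σ' f hform hfix)
  set b' : Matrix ι ι F := ((B⁻¹ : GL ι F) : Matrix ι ι F)
  set G' : Matrix ι ι F := b'ᵀ * gramMatrix f * b'.map σ' with hG'
  -- the matrix is hermitian
  have hherm : ∀ i j, σ (G' i j) = G' j i := by
    intro i j
    have e : ∀ i j, G' i j = f (b' *ᵥ Pi.single i 1) (b' *ᵥ Pi.single j 1) := fun i j => by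
      rw [gram_congr σ' f hform]
      have e : σ' ∘ (Pi.single j (1 : F) : ι → F) = Pi.single j 1 := by
        funext k
        rw [Function.comp_apply]
        rcases eq_or_ne k j with rfl | hk <;> simp [*]
      rw [e, single_dotProduct, one_mul, Matrix.mulVec_single_one]
      rfl
    rw [e, e, ← hf.herm]
  have hG'u : IsUnit G' := by
    refine (IsUnit.mul ?_ hu).mul ?_
    · exact (Matrix.isUnit_transpose b').2 (B⁻¹).isUnit
    · exact (RingHom.mapMatrix σ').isUnit_map (B⁻¹).isUnit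
  obtain ⟨i₀, j₀, h0⟩ := exists_ne_entry hG'u
  -- `σ c / c` lies in the subfield and has norm one
  set μ : F := σ c / c with hμ
  have hμF : μ ∈ F₀ := by
    have h1 : σ (c * G' i₀ j₀) ∈ F₀ := hσF _ (hcr i₀ j₀)
    rw [map_mul, hherm] at h1
    have h2 : c * G' j₀ i₀ ∈ F₀ := hcr j₀ i₀
    have h3 : G' j₀ i₀ ≠ 0 := fun e => h0 (by rw [← hherm, e, map_zero])
    have := F₀.div_mem h1 h2
    rwa [mul_div_mul_right _ _ h3] at this
  obtain ⟨ν, hνF, hν0, hν⟩ : ∃ ν ∈ F₀, ν ≠ 0 ∧ σ (ν * c) = ν * c := by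
    have key : ∀ a : F, σ ((a + σ a * μ) * c) = (a + σ a * μ) * c := fun a => by
      have hσc0 : σ c ≠ 0 := by simpa using hc
      rw [map_mul, map_add, map_mul, hf.involutive, hμ, map_div₀, hf.involutive]
      field_simp
      ring
    by_cases hall : ∀ a ∈ F₀, a + σ a * μ = 0
    · have h1 := hall 1 F₀.one_mem
      rw [map_one, one_mul] at h1
      have hfixF : ∀ a ∈ F₀, σ a = a := fun a ha => by
        have := hall a ha
        linear_combination -this + σ a * h1
      have hμ1 : μ = -1 := by linear_combination h1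
      have hσc : σ c = -c := by
        have := hμ1
        rw [hμ, div_eq_iff hc] at this
        linear_combination this
      -- the rational matrix is skew, hence characteristic two
      have hskew : (c • G')ᵀ = -(c • G') := by
        ext i j
        have := hfixF _ (hcr i j)
        rw [Matrix.smul_apply, smul_eq_mul, map_mul, hherm, hσc] at this
        simp only [Matrix.transpose_apply, Matrix.smul_apply, Matrix.neg_apply, smul_eq_mul]
        linear_combination -this
      have hdet := congrArg Matrix.det hskew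
      rw [Matrix.det_transpose, Matrix.det_neg, hodd.neg_one_pow] at hdet
      have hne : (c • G').det ≠ 0 := by
        rw [Matrix.det_smul]
        exact mul_ne_zero (pow_ne_zero _ hc) ((Matrix.isUnit_iff_isUnit_det _).1 hG'u).ne_zero
      refine ⟨1, F₀.one_mem, one_ne_zero, ?_⟩
      rw [one_mul, hσc]
      have h2 : (2 : F) = 0 := by
        have : (2 : F) * (c • G').det = 0 := by linear_combination hdet
        exact (mul_eq_zero.1 this).resolve_right hne
      linear_combination (-c) * h2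
    · simp only [not_forall] at hall
      obtain ⟨a, ha, hne⟩ := hall
      exact ⟨_, F₀.add_mem ha (F₀.mul_mem (hσF a ha) hμF), hne, key a⟩
  obtain ⟨s, hs0, hs⟩ := exists_norm σ hf.ne_refl hf.involutive (mul_ne_zero hν0 hc) hν
  obtain ⟨B', hB'e, hB's⟩ := exists_scaled B⁻¹ hs0
  have e : (B' : Matrix ι ι F)ᵀ * gramMatrix f * (B' : Matrix ι ι F).map σ' = ν • (c • G') := by
    have hm : (s • b').map σ' = σ' s • b'.map σ' := by ext; simp
    rw [hB'e, hm, Matrix.transpose_smul, Matrix.smul_mul, Matrix.smul_mul, Matrix.mul_smul, smul_smul, smul_smul,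
      hσv, hs]
  have hR : Rat0 F₀ ((B' : Matrix ι ι F)ᵀ * gramMatrix f * (B' : Matrix ι ι F).map σ') := by
    intro i j
    rw [e]
    exact F₀.mul_mem hνF (hcr i j)
  refine ⟨B', fun u v hu hv => ?_, fun h hn => hB's F₀ ▸ mem_subfieldSubgroup_of_normalises P habs hB' hn, ?_⟩
  · rw [one_mul]
    exact rat_value σ' hσF f hform _ hR hu hv
  intro hfixF
  have hsym : ((ν * c) • G')ᵀ = (ν * c) • G' := by
    ext i j
    have := hfixF _ (F₀.mul_mem hνF (hcr i j))
    rw [Matrix.smul_apply, smul_eq_mul, ← mul_assoc, map_mul, hν, hherm] at this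
    simpa [Matrix.transpose_apply] using this
  let b : Matrix ι ι F := (B : Matrix ι ι F)
  have hbb : b * b' = 1 := by rw [← Units.val_mul, mul_inv_cancel, Units.val_one]
  have hb'b : b' * b = 1 := by rw [← Units.val_mul, inv_mul_cancel, Units.val_one]
  refine two_ne_zero_of_symm hodd hcard {s | ∃ p ∈ P, s = b * (p : Matrix ι ι F) * b'} ?_
    (hG'u.smul (Units.mk0 _ (mul_ne_zero hν0 hc))) (by simpa [Units.smul_def] using hsym) ?_
  · intro W hW
    have h' : ∀ s ∈ matrixSet P, (W.map (Matrix.toLin' b')).map (Matrix.toLin' s) ≤ W.map (Matrix.toLin' b') := by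
      rintro _ ⟨p, hp, rfl⟩ _ ⟨_, ⟨v, hv, rfl⟩, rfl⟩
      refine ⟨_, hW _ ⟨p, hp, rfl⟩ ⟨v, hv, rfl⟩, ?_⟩
      simp only [Matrix.toLin'_apply, Matrix.mulVec_mulVec]
      rw [show b' * (b * (p : Matrix ι ι F) * b') = (b' * b) * ((p : Matrix ι ι F) * b') by simp only [mul_assoc],
        hb'b, one_mul]
    have hinj : Function.Injective (Matrix.toLin' b') := fun x y h => by
      have := congrArg (fun z => b *ᵥ z) h
      simpa [Matrix.toLin'_apply, Matrix.mulVec_mulVec, hbb] using this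
    rcases habs.1 _ h' with h | h
    · left
      exact Submodule.map_injective_of_injective hinj (by rw [h, Submodule.map_bot])
    · right
      refine eq_top_iff.2 fun x _ => ?_
      obtain ⟨v, hv, e⟩ := (h ▸ Submodule.mem_top : Matrix.toLin' b' x ∈ W.map (Matrix.toLin' b'))
      exact hinj e ▸ hv
  · rintro _ ⟨p, hp, rfl⟩
    have hid : (b * (p : Matrix ι ι F) * b').map σ' = b * (p : Matrix ι ι F) * b' :=
      Matrix.ext fun i j => hfixF _ (hB' p hp i j)
    rw [Units.smul_def, Units.val_mk0, Matrix.mul_smul, Matrix.smul_mul]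
    congr 1
    conv_lhs => arg 2; rw [← hid]
    simp only [Matrix.transpose_mul, Matrix.map_mul, hG']
    have hb'σ : b'.map σ' * b.map σ' = 1 := by
      rw [← Matrix.map_mul, hb'b, Matrix.map_one _ σ'.map_zero σ'.map_one]
    calc b'ᵀ * ((p : Matrix ι ι F)ᵀ * bᵀ) * (b'ᵀ * gramMatrix f * b'.map σ') *
          (b.map σ' * (p : Matrix ι ι F).map σ' * b'.map σ')
        = b'ᵀ * ((p : Matrix ι ι F)ᵀ * (bᵀ * b'ᵀ) * gramMatrix f * (b'.map σ' * b.map σ') *
            (p : Matrix ι ι F).map σ') * b'.map σ' := by simp only [mul_assoc]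
      _ = b'ᵀ * gramMatrix f * b'.map σ' := by
          rw [hb'σ, ← Matrix.transpose_mul, hb'b, Matrix.transpose_one, mul_one, mul_one,
            fixes_gram σ' f hform hfix p hp]

/-- A group fixing a unitary and a bilinear form is realisable over a proper subfield. -/
theorem realisable_of_two_forms [Nonempty ι] [Finite F] {σ : F ≃+* F} {f : (ι → F) → (ι → F) → F}
    (hf : IsUnitaryForm σ f) {G : Matrix ι ι F} (hG : IsUnit G) {P : Subgroup (GL ι F)}
    (habs : ActsAbsolutelyIrreducibly (matrixSet P)) (hfix : FixesForm (matrixSet P) f)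
    (hfixG : ∀ p ∈ P, (p : Matrix ι ι F)ᵀ * G * (p : Matrix ι ι F) = G) :
    ∃ F₀ : Subfield F, F₀ ≠ ⊤ ∧ (∀ a, a ∈ F₀ ↔ σ a = a) ∧ RealisableOver F₀ (matrixSet P) := by
  set σ' : F →+* F := (σ : F →+* F)
  have hσv : ∀ a, σ' a = σ a := fun _ => rfl
  have ar : ∀ v x y, f v (x + y) = f v x + f v y := fun v x y => by
    rw [hf.herm, hf.add_left, map_add, ← hf.herm, ← hf.herm]
  have sr : ∀ (c : F) v x, f v (c • x) = σ' c * f v x := fun c v x => by
    rw [hf.herm, hf.smul_left, map_mul, ← hf.herm, hσv]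
  have hform := form_eq σ' f hf.add_left hf.smul_left ar sr
  obtain ⟨H, hH⟩ := gram_isUnit σ' f hform hf.nondegenerate
  obtain ⟨Γ, rfl⟩ := hG
  have hσσ : ∀ X : Matrix ι ι F, (X.map σ').map σ' = X := fun X => Matrix.ext fun i j => hf.involutive _
  set C : GL ι F := H⁻¹ * Γ with hC
  -- conjugation by `C` is the field automorphism on `P`
  have hconj : ∀ p ∈ P, (p : Matrix ι ι F).map σ' * (C : Matrix ι ι F) = (C : Matrix ι ι F) * p := by
    intro p hp
    obtain ⟨t, ht⟩ : IsUnit (p : Matrix ι ι F)ᵀ := (Matrix.isUnit_transpose _).2 p.isUnit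
    obtain ⟨q, hq⟩ : IsUnit ((p : Matrix ι ι F).map σ') := (RingHom.mapMatrix σ').isUnit_map p.isUnit
    have e1 : t * H * q = H := Units.ext (by
      rw [Units.val_mul, Units.val_mul, ht, hq, hH]; exact fixes_gram σ' f hform hfix p hp)
    have e2 : t * Γ * p = Γ := Units.ext (by rw [Units.val_mul, Units.val_mul, ht]; exact hfixG p hp)
    rw [← hq, ← Units.val_mul, ← Units.val_mul]
    congr 1
    rw [hC]
    calc q * (H⁻¹ * Γ) = q * (t * H * q)⁻¹ * (t * Γ * p) := by rw [e1, e2, mul_assoc]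
      _ = _ := by group
  obtain ⟨lam, hlam⟩ := habs.2 ((C : Matrix ι ι F).map σ' * C) fun s hs => by
    obtain ⟨p, hp, rfl⟩ := hs
    have e := congrArg (fun X : Matrix ι ι F => X.map σ') (hconj p hp)
    simp only [Matrix.map_mul, hσσ] at e
    rw [mul_assoc, ← hconj p hp, ← mul_assoc, ← e, mul_assoc]
  have hlam0 : lam ≠ 0 := by
    intro h0
    have hu : IsUnit ((C : Matrix ι ι F).map σ' * C) :=
      ((RingHom.mapMatrix σ').isUnit_map C.isUnit).mul C.isUnit
    rw [hlam, h0, zero_smul] at hu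
    exact not_isUnit_zero hu
  have hlamσ : σ lam = lam := by
    have e : (C : Matrix ι ι F) * (C : Matrix ι ι F).map σ' = σ lam • 1 := by
      have := congrArg (fun X : Matrix ι ι F => X.map σ') hlam
      simp only [Matrix.map_mul, hσσ] at this
      rw [this]
      ext i j
      rcases eq_or_ne i j with rfl | hij <;> simp [*, σ']
    have h : (σ lam • (1 : Matrix ι ι F)) * C = (C : Matrix ι ι F) * (lam • 1) := by
      rw [← e, ← hlam, mul_assoc]
    rw [Matrix.smul_mul, Matrix.mul_smul, one_mul, mul_one] at h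
    obtain ⟨i, j, hij⟩ := exists_ne_entry C.isUnit
    have h' := congrFun (congrFun h i) j
    simp only [Matrix.smul_apply, smul_eq_mul] at h'
    exact mul_right_cancel₀ hij h'
  obtain ⟨a, ha0, ha⟩ := exists_norm σ hf.ne_refl hf.involutive hlam0 hlamσ
  -- normalised cocycle
  set D : Matrix ι ι F := a⁻¹ • (C : Matrix ι ι F) with hD
  have hDD : D.map σ' * D = 1 := by
    have hm : D.map σ' = σ' a⁻¹ • (C : Matrix ι ι F).map σ' := by ext; simp [hD]
    rw [hm, hD, Matrix.smul_mul, Matrix.mul_smul, hlam, smul_smul, smul_smul, ← ha, map_inv₀, hσv]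
    rw [show (σ a)⁻¹ * a⁻¹ * (a * σ a) = 1 by
      have : σ a ≠ 0 := by simpa using ha0
      field_simp]
    rw [one_smul]
  have hDD' : D * D.map σ' = 1 := mul_eq_one_comm.1 hDD
  have hDp : ∀ p ∈ P, (p : Matrix ι ι F).map σ' * D = D * p := fun p hp => by
    rw [hD, Matrix.mul_smul, Matrix.smul_mul, hconj p hp]
  set S : Set (ι → F) := {v | σ' ∘ v = D *ᵥ v} with hS
  have hspan : Submodule.span F S = ⊤ := by
    obtain ⟨a, ha⟩ : ∃ a : F, σ a ≠ a := by
      by_contra h
      simp only [not_exists, not_not] at h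
      exact hf.ne_refl (RingEquiv.ext h)
    have hmv : ∀ (M : Matrix ι ι F) (v : ι → F), σ' ∘ (M *ᵥ v) = M.map σ' *ᵥ (σ' ∘ v) :=
      fun M v => funext fun i => RingHom.map_mulVec σ' M v i
    have hJ : ∀ v : ι → F, v + D.map σ' *ᵥ (σ' ∘ v) ∈ S := by
      intro v
      have hσv' : σ' ∘ (σ' ∘ v) = v := funext fun i => hf.involutive _
      have hadd : σ' ∘ (v + D.map σ' *ᵥ (σ' ∘ v)) = σ' ∘ v + σ' ∘ (D.map σ' *ᵥ (σ' ∘ v)) :=
        funext fun i => map_add σ' _ _
      show σ' ∘ _ = D *ᵥ _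
      rw [hadd, hmv, hσσ, hσv', Matrix.mulVec_add, Matrix.mulVec_mulVec, hDD', Matrix.one_mulVec, add_comm]
    refine eq_top_iff.2 fun v _ => ?_
    have h1 := Submodule.smul_mem _ (σ a) (Submodule.subset_span (R := F) (hJ v))
    have h2 := Submodule.subset_span (R := F) (hJ (a • v))
    have hsm : σ' ∘ (a • v) = σ a • (σ' ∘ v) := funext fun i => map_mul σ' a (v i)
    rw [hsm, Matrix.mulVec_smul] at h2
    have h3 := Submodule.sub_mem _ h1 h2
    rw [smul_add, add_sub_add_right_eq_sub, ← sub_smul] at h3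
    exact (Submodule.smul_mem_iff _ (sub_ne_zero.2 ha)).1 h3
  obtain ⟨g, hgS, hgspan, hgli⟩ := Submodule.exists_fun_fin_finrank_span_eq F S
  have hn : Fintype.card ι = Module.finrank F (Submodule.span F S) := by
    rw [hspan, finrank_top, Module.finrank_fintype_fun_eq_card]
  let e : ι ≃ Fin (Module.finrank F (Submodule.span F S)) := (Fintype.equivFin ι).trans (finCongr hn)
  set M : Matrix ι ι F := Matrix.of fun i j => g (e j) i with hM
  have hMu : IsUnit M := Matrix.linearIndependent_cols_iff_isUnit.1 (hgli.comp e e.injective)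
  have hσM : M.map σ' = D * M := by
    ext i j
    exact congrFun (show σ' ∘ g (e j) = D *ᵥ g (e j) from hgS (e j)) i
  obtain ⟨U, hU⟩ := hMu
  refine ⟨RingHom.eqLocusField σ' (RingHom.id F), ?_, fun a => Iff.rfl, U⁻¹, ?_⟩
  · intro h
    apply hf.ne_refl
    ext a
    exact (h ▸ Subfield.mem_top a : a ∈ RingHom.eqLocusField σ' (RingHom.id F))
  rintro _ ⟨p, hp, rfl⟩ i j
  rw [inv_inv]
  set X : Matrix ι ι F := ((U⁻¹ : GL ι F) : Matrix ι ι F) * (p : Matrix ι ι F) * (U : Matrix ι ι F) with hX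
  have hX1 : M * X = (p : Matrix ι ι F) * M := by
    rw [hX, ← hU, ← mul_assoc, ← mul_assoc, Units.mul_inv, one_mul]
  have hX2 : M * X.map σ' = M * X := by
    have h := congrArg (fun Y : Matrix ι ι F => Y.map σ') hX1
    simp only [Matrix.map_mul, hσM] at h
    rw [← mul_assoc, hDp p hp] at h
    have h' := congrArg (fun Y => D.map σ' * Y) h
    simp only [← mul_assoc, hDD, one_mul] at h'
    rw [h', hX1]
  have hXX : X.map σ' = X := by
    rw [← hU] at hX2
    exact U.isUnit.mul_left_cancel hX2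
  exact congrFun (congrFun hXX i) j

/-- A group fixing a unitary and a quadratic form is realisable over the fixed field of the involution. -/
theorem realisable_of_unitary_quad [Nonempty ι] [Finite F] {σ : F ≃+* F} {f : (ι → F) → (ι → F) → F}
    (hf : IsUnitaryForm σ f) {Q : (ι → F) → F} (hQ : IsNondegenerateQuadraticForm Q) {P : Subgroup (GL ι F)}
    (habs : ActsAbsolutelyIrreducibly (matrixSet P)) (hfix : FixesForm (matrixSet P) f)
    (hfixQ : FixesQuadForm (matrixSet P) Q) :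
    ∃ F₀ : Subfield F, F₀ ≠ ⊤ ∧ (∀ a, a ∈ F₀ ↔ σ a = a) ∧ RealisableOver F₀ (matrixSet P) := by
  have hb := hQ.polar_bilinear
  have hform := form_eq (RingHom.id F) (QuadraticMap.polar Q) hb.add_left hb.smul_left hb.add_right hb.smul_right
  have hfixf : FixesForm (matrixSet P) (QuadraticMap.polar Q) := fun s hs u v => by
    simp only [QuadraticMap.polar, ← Matrix.mulVec_add, hfixQ s hs]
  refine realisable_of_two_forms hf (gram_isUnit _ _ hform hQ.nondegenerate) habs hfix fun p hp => ?_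
  have e := fixes_gram _ _ hform hfixf p hp
  rwa [show (p : Matrix ι ι F).map (RingHom.id F) = (p : Matrix ι ι F) by ext; rfl] at e

omit [Fintype ι] [DecidableEq ι] in
/-- A proper subfield of a finite field lies in a subfield of prime index. -/
theorem exists_prime_index [Finite F] {F₀ : Subfield F} (h0 : F₀ ≠ ⊤) :
    ∃ (F₁ : Subfield F) (r : ℕ), F₀ ≤ F₁ ∧ r.Prime ∧ Nat.card F = Nat.card F₁ ^ r := by
  classical
  haveI : FiniteDimensional F₀ F := Module.Finite.of_finite
  have hgal : IsGalois F₀ F := inferInstance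
  have hd1 : Module.finrank F₀ F ≠ 1 := by
    intro h
    apply h0
    rw [eq_top_iff]
    intro x _
    obtain ⟨c, hc⟩ := (finrank_eq_one_iff_of_nonzero' (1 : F) one_ne_zero).1 h x
    rw [← hc, Subfield.smul_def, smul_eq_mul, mul_one]
    exact c.2
  obtain ⟨r, hr, hrd⟩ := Nat.exists_prime_and_dvd hd1
  haveI : Fact r.Prime := ⟨hr⟩
  obtain ⟨g, hg⟩ := exists_prime_orderOf_dvd_card' (G := F ≃ₐ[F₀] F) r
    (by rw [IsGalois.card_aut_eq_finrank]; exact hrd)
  let K : IntermediateField F₀ F := IntermediateField.fixedField (Subgroup.zpowers g)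
  refine ⟨K.toSubfield, r, fun x hx => K.algebraMap_mem ⟨x, hx⟩, hr, ?_⟩
  have h := Module.natCard_eq_pow_finrank (K := K) (V := F)
  rw [IntermediateField.finrank_fixedField_eq_card, Nat.card_zpowers, hg] at h
  exact h

/-- Realisability over a proper subfield implies realisability over a subfield of prime index. -/
theorem exists_prime_index_realisable [Finite F] {F₀ : Subfield F} (h0 : F₀ ≠ ⊤) {S : Set (Matrix ι ι F)}
    (h : RealisableOver F₀ S) :
    ∃ (F₁ : Subfield F) (r : ℕ), F₁ ≠ ⊤ ∧ r.Prime ∧ Nat.card F = Nat.card F₁ ^ r ∧ RealisableOver F₁ S := by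
  obtain ⟨F₁, r, hle, hr, hc⟩ := exists_prime_index h0
  obtain ⟨B, hB⟩ := h
  refine ⟨F₁, r, fun e => ?_, hr, hc, B, fun s hs i j => hle (hB s hs i j)⟩
  have h1 : Nat.card F₁ = Nat.card F := by
    rw [e]; exact Nat.card_congr (Subfield.topEquiv (K := F)).toEquiv
  rw [h1] at hc
  exact hr.ne_one (Nat.pow_right_injective (Finite.one_lt_card (α := F)) (by simpa using hc.symm))

/-- Bilinear forms in any dimension: a multiple of the form is rational on the subfield structure. -/
theorem exists_bilinear_structure [Nonempty ι] {f : (ι → F) → (ι → F) → F} (hf : IsBilinearForm f)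
    (hnd : IsNondegenerateForm f) {F₀ : Subfield F} {P : Subgroup (GL ι F)}
    (habs : ActsAbsolutelyIrreducibly (matrixSet P)) (hfix : FixesForm (matrixSet P) f)
    (hreal : RealisableOver F₀ (matrixSet P)) :
    ∃ (B' : GL ι F) (ζ : F), ζ ≠ 0 ∧ IsFormRationalStructure f F₀ ζ B' ∧
      ∀ h : GL ι F, (∀ x ∈ P, h * x * h⁻¹ ∈ P) → h ∈ subfieldSubgroup F₀ B' := by
  obtain ⟨B, hB⟩ := hreal
  have hB' : ∀ p ∈ P, Rat0 F₀ ((B : Matrix ι ι F) * (p : Matrix ι ι F) * ((B⁻¹ : GL ι F) : Matrix ι ι F)) :=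
    fun p hp => hB _ ⟨p, hp, rfl⟩
  have hform := form_eq (RingHom.id F) f hf.add_left hf.smul_left hf.add_right hf.smul_right
  obtain ⟨c, hc, hcr⟩ := exists_smul_gram P (RingHom.id F) (fun a ha => ha) habs hB'
    (gram_isUnit _ f hform hnd) (fixes_gram _ f hform hfix)
  refine ⟨B⁻¹, c, hc, fun u v hu hv => ?_, fun h hn => mem_subfieldSubgroup_of_normalises P habs hB' hn⟩
  rw [gram_congr (RingHom.id F) f hform]
  have e : c * (u ⬝ᵥ (((B⁻¹ : GL ι F) : Matrix ι ι F)ᵀ * gramMatrix f *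
      ((B⁻¹ : GL ι F) : Matrix ι ι F).map (RingHom.id F)) *ᵥ ((RingHom.id F) ∘ v)) =
      u ⬝ᵥ (c • (((B⁻¹ : GL ι F) : Matrix ι ι F)ᵀ * gramMatrix f *
      ((B⁻¹ : GL ι F) : Matrix ι ι F).map (RingHom.id F))) *ᵥ v := by
    rw [Matrix.smul_mulVec, dotProduct_smul, smul_eq_mul]; rfl
  rw [e]
  exact F₀.sum_mem fun i _ => F₀.mul_mem (hu i) (F₀.sum_mem fun j _ => F₀.mul_mem (hcr i j) (hv j))

end Forms

end Cfsg.Agent.Lib.PrimeDim.FormDescent

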