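import Cfsg.Prelude.Def_GeometricClasses
import Mathlib

/-!
Groups of symplectic type in odd prime dimension `r`: a non-abelian matrix group `R` on `F^r` whose commutators
are scalars and whose scalars have exponent `r`.
-/

set_option autoImplicit false
set_option linter.unusedSectionVars false

namespace Cfsg.Agent.Lib.PrimeDim.SympType

open Matrix Finset Cfsg.Geo

variable {ι : Type} [Fintype ι] [DecidableEq ι] {F : Type*} [Field F]

local notation "M" => Matrix ι ι F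
local notation "G" => GL ι F

/-- A pair of matrices of determinant non-zero with commutator `ω` of order `r`. -/
structure WeylPair (r : ℕ) (ω : F) (x y : GL ι F) : Prop where
  card : Fintype.card ι = r
  prime : r.Prime
  root : IsPrimitiveRoot ω r
  rel : (x : M) * y = ω • ((y : M) * x)

theorem val_mem_scalars_iff {g : G} : g ∈ scalars ι F ↔ ∃ c : F, (g : M) = c • (1 : M) := by
  rw [mem_scalars_iff]
  constructor
  · rintro ⟨c, hc⟩
    exact ⟨c, hc⟩
  · rintro ⟨c, hc⟩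
    rcases isEmpty_or_nonempty ι with hι | hι
    · exact ⟨1, Matrix.ext fun i => isEmptyElim i⟩
    refine ⟨Units.mk0 c ?_, hc⟩
    rintro rfl
    exact g.ne_zero (by rw [hc, zero_smul])

/-- Fourier filtering. -/
theorem filter_zero {V : Type*} [AddCommGroup V] [Module F V] {r : ℕ} {ω : F} (hω : IsPrimitiveRoot ω r)
    (hr : (r : F) ≠ 0) (T : Fin r → V) (h : ∀ k : ℕ, ∑ b : Fin r, ω ^ (k * (b : ℕ)) • T b = 0) (b₀ : Fin r) :
    T b₀ = 0 := by
  have key : ∀ b : Fin r, ∑ k ∈ range r, (ω⁻¹) ^ (k * (b₀ : ℕ)) * ω ^ (k * (b : ℕ)) = if b = b₀ then (r : F) else 0 := by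
    intro b
    have e : ∀ k : ℕ, (ω⁻¹) ^ (k * (b₀ : ℕ)) * ω ^ (k * (b : ℕ)) = ((ω⁻¹) ^ (b₀ : ℕ) * ω ^ (b : ℕ)) ^ k := by
      intro k; rw [mul_pow, ← pow_mul, ← pow_mul, mul_comm k, mul_comm k]
    simp only [e]
    have hω0 : ω ≠ 0 := hω.ne_zero (by have := b₀.isLt; omega)
    split_ifs with hb
    · subst hb
      simp [inv_pow, hω0]
    · have hne : (ω⁻¹) ^ (b₀ : ℕ) * ω ^ (b : ℕ) ≠ 1 := by
        intro he
        rw [inv_pow, inv_mul_eq_one₀ (pow_ne_zero _ hω0)] at he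
        exact hb (Fin.ext (hω.pow_inj b₀.isLt b.isLt he).symm)
      have hp : ((ω⁻¹) ^ (b₀ : ℕ) * ω ^ (b : ℕ)) ^ r = 1 := by
        rw [mul_pow, ← pow_mul, ← pow_mul, mul_comm (b₀ : ℕ), mul_comm (b : ℕ), pow_mul, pow_mul, inv_pow,
          hω.pow_eq_one, inv_one, one_pow, one_pow, one_mul]
      rw [geom_sum_eq hne, hp, sub_self, zero_div]
  have h0 : ∑ k ∈ range r, (ω⁻¹) ^ (k * (b₀ : ℕ)) • ∑ b : Fin r, ω ^ (k * (b : ℕ)) • T b = 0 := by simp [h]
  simp only [Finset.smul_sum, smul_smul] at h0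
  rw [Finset.sum_comm] at h0
  simp only [← Finset.sum_smul, key, ite_smul, zero_smul, Finset.sum_ite_eq', Finset.mem_univ, if_true] at h0
  exact (smul_eq_zero.1 h0).resolve_left hr

theorem left_eq_zero {V κ : Type*} [AddCommGroup V] [Module F V] [Fintype κ] [DecidableEq κ] {f : κ → V}
    (hf : LinearIndependent F f) {p q : κ} (hpq : p ≠ q) {s t : F} (h : s • f p + t • f q = 0) : s = 0 := by
  have := Fintype.linearIndependent_iff.1 hf (Pi.single p s + Pi.single q t)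
    (by simpa [add_smul, Finset.sum_add_distrib, Pi.single_apply, ite_smul] using h) p
  simpa [hpq] using this

namespace WeylPair

variable {r : ℕ} {ω : F} {x y : GL ι F}

theorem cast_ne_zero (h : WeylPair r ω x y) : (r : F) ≠ 0 := by
  haveI : NeZero r := ⟨h.prime.ne_zero⟩
  exact (h.root.neZero').out

theorem omega_ne_zero (h : WeylPair r ω x y) : ω ≠ 0 := h.root.ne_zero h.prime.ne_zero

theorem nonempty (h : WeylPair r ω x y) : Nonempty ι :=
  Fintype.card_pos_iff.1 (h.card ▸ h.prime.pos)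

theorem x_ypow (h : WeylPair r ω x y) (b : ℕ) : (x : M) * (y : M) ^ b = ω ^ b • ((y : M) ^ b * x) := by
  induction b with
  | zero => simp
  | succ b ih =>
    rw [pow_succ, ← mul_assoc, ih, smul_mul_assoc, mul_assoc, h.rel, mul_smul_comm, smul_smul, ← mul_assoc,
      ← pow_succ, ← pow_succ]

theorem xpow_ypow (h : WeylPair r ω x y) (a b : ℕ) :
    (x : M) ^ a * (y : M) ^ b = ω ^ (a * b) • ((y : M) ^ b * (x : M) ^ a) := by
  induction a with
  | zero => simp
  | succ a ih =>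
    rw [pow_succ, mul_assoc, h.x_ypow, mul_smul_comm, ← mul_assoc, ih, smul_mul_assoc, smul_smul, mul_assoc,
      ← pow_succ, ← pow_add]
    congr 2
    ring

theorem conj_x (h : WeylPair r ω x y) (k a b : ℕ) :
    (x : M) ^ k * ((x : M) ^ a * (y : M) ^ b) * ((x⁻¹ : G) : M) ^ k = ω ^ (k * b) • ((x : M) ^ a * (y : M) ^ b) := by
  have e : (x : M) ^ k * ((x⁻¹ : G) : M) ^ k = 1 := by
    rw [← Units.val_pow_eq_pow_val, ← Units.val_pow_eq_pow_val, ← Units.val_mul, inv_pow, mul_inv_cancel,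
      Units.val_one]
  rw [← mul_assoc, ← pow_add, add_comm, pow_add, mul_assoc ((x : M) ^ a), h.xpow_ypow, mul_smul_comm,
    smul_mul_assoc, mul_assoc, mul_assoc, e, mul_one]

theorem conj_y (h : WeylPair r ω x y) (k a : ℕ) :
    ((y⁻¹ : G) : M) ^ k * (x : M) ^ a * (y : M) ^ k = ω ^ (k * a) • (x : M) ^ a := by
  have e : ((y⁻¹ : G) : M) ^ k * (y : M) ^ k = 1 := by
    rw [← Units.val_pow_eq_pow_val, ← Units.val_pow_eq_pow_val, ← Units.val_mul, inv_pow, inv_mul_cancel,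
      Units.val_one]
  rw [mul_assoc, h.xpow_ypow, mul_smul_comm, ← mul_assoc, e, one_mul, mul_comm]

theorem linearIndependent (h : WeylPair r ω x y) :
    LinearIndependent F fun ab : Fin r × Fin r => (x : M) ^ (ab.1 : ℕ) * (y : M) ^ (ab.2 : ℕ) := by
  rw [Fintype.linearIndependent_iff]
  rintro c hc ⟨a₀, b₀⟩
  have hb : ∀ b, ∑ a, c (a, b) • ((x : M) ^ (a : ℕ) * (y : M) ^ (b : ℕ)) = 0 := by
    refine filter_zero h.root h.cast_ne_zero _ fun k => ?_
    have h1 := congrArg (fun m : M => (x : M) ^ k * m * ((x⁻¹ : G) : M) ^ k) hc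
    simp only [Finset.mul_sum, Finset.sum_mul, mul_smul_comm, smul_mul_assoc, h.conj_x, mul_zero, zero_mul,
      Fintype.sum_prod_type] at h1
    rw [Finset.sum_comm] at h1
    simpa only [Finset.smul_sum, smul_comm (ω ^ (k * _))] using h1
  have ha : ∀ a, c (a, b₀) • (x : M) ^ (a : ℕ) = 0 := by
    refine filter_zero h.root h.cast_ne_zero _ fun k => ?_
    have h0 : ∑ a, c (a, b₀) • (x : M) ^ (a : ℕ) = 0 := by
      have h1 := congrArg (fun m : M => m * ((y⁻¹ : G) : M) ^ (b₀ : ℕ)) (hb b₀)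
      simpa only [Finset.sum_mul, smul_mul_assoc, mul_assoc, zero_mul, ← Units.val_pow_eq_pow_val, ← Units.val_mul,
        inv_pow, mul_inv_cancel, Units.val_one, mul_one] using h1
    have h1 := congrArg (fun m : M => ((y⁻¹ : G) : M) ^ k * m * (y : M) ^ k) h0
    simp only [Finset.mul_sum, Finset.sum_mul, mul_smul_comm, smul_mul_assoc, h.conj_y, mul_zero, zero_mul] at h1
    simpa only [smul_comm (ω ^ (k * _))] using h1
  haveI := h.nonempty
  refine (smul_eq_zero.1 (ha a₀)).resolve_right ?_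
  rw [← Units.val_pow_eq_pow_val]
  exact Units.ne_zero _

theorem span_eq_top (h : WeylPair r ω x y) :
    Submodule.span F (Set.range fun ab : Fin r × Fin r => (x : M) ^ (ab.1 : ℕ) * (y : M) ^ (ab.2 : ℕ)) = ⊤ := by
  haveI : NeZero r := ⟨h.prime.ne_zero⟩
  refine h.linearIndependent.span_eq_top_of_card_eq_finrank ?_
  rw [Module.finrank_matrix, Module.finrank_self, mul_one, h.card, Fintype.card_prod, Fintype.card_fin]

theorem eq_smul_one (h : WeylPair r ω x y) {m : M} (hx : Commute m (x : M)) (hy : Commute m (y : M)) :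
    ∃ c : F, m = c • (1 : M) := by
  have hall : ∀ n : M, Commute m n := by
    intro n
    have hn : n ∈ Submodule.span F (Set.range fun ab : Fin r × Fin r => (x : M) ^ (ab.1 : ℕ) * (y : M) ^ (ab.2 : ℕ)) :=
      h.span_eq_top ▸ Submodule.mem_top
    induction hn using Submodule.span_induction with
    | mem n hn => obtain ⟨ab, rfl⟩ := hn; exact (hx.pow_right _).mul_right (hy.pow_right _)
    | zero => exact Commute.zero_right m
    | add a b _ _ ha hb => exact ha.add_right hb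
    | smul c a _ ha => exact ha.smul_right c
  obtain ⟨c, hc⟩ := Matrix.mem_range_scalar_of_commute_single (fun i j _ => (hall _).symm)
  exact ⟨c, by rw [← hc, Matrix.scalar_apply, Matrix.smul_one_eq_diagonal]⟩

theorem mem_scalars (h : WeylPair r ω x y) {g : G} (hx : Commute g x) (hy : Commute g y) : g ∈ scalars ι F :=
  val_mem_scalars_iff.2 (h.eq_smul_one (hx.map (Units.coeHom M)) (hy.map (Units.coeHom M)))

theorem irreducible (h : WeylPair r ω x y) {S : Set M} (hx : (x : M) ∈ S) (hy : (y : M) ∈ S) :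
    ActsIrreducibly S := by
  intro W hW
  have hall : ∀ n : M, ∀ w ∈ W, n *ᵥ w ∈ W := by
    intro n
    have hn : n ∈ Submodule.span F (Set.range fun ab : Fin r × Fin r => (x : M) ^ (ab.1 : ℕ) * (y : M) ^ (ab.2 : ℕ)) :=
      h.span_eq_top ▸ Submodule.mem_top
    have hpow : ∀ s ∈ S, ∀ (a : ℕ), ∀ w ∈ W, s ^ a *ᵥ w ∈ W := by
      intro s hs a
      induction a with
      | zero => intro w hw; simpa using hw
      | succ a ih =>
        intro w hw
        rw [pow_succ, ← Matrix.mulVec_mulVec]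
        exact ih _ (hW s hs ⟨w, hw, rfl⟩)
    induction hn using Submodule.span_induction with
    | mem n hn =>
      obtain ⟨ab, rfl⟩ := hn
      intro w hw
      rw [← Matrix.mulVec_mulVec]
      exact hpow _ hx _ _ (hpow _ hy _ _ hw)
    | zero => intro w _; simp
    | add a b _ _ ha hb => intro w hw; rw [Matrix.add_mulVec]; exact W.add_mem (ha w hw) (hb w hw)
    | smul c a _ ha => intro w hw; rw [Matrix.smul_mulVec]; exact W.smul_mem c (ha w hw)
  rcases eq_or_ne W ⊥ with h0 | h0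
  · exact Or.inl h0
  refine Or.inr (eq_top_iff.2 fun v _ => ?_)
  obtain ⟨w, hw, hw0⟩ := (Submodule.ne_bot_iff W).1 h0
  obtain ⟨i, hi⟩ := Function.ne_iff.1 hw0
  have hv : v = ∑ j, v j • (Matrix.single j i (w i)⁻¹ *ᵥ w) := by
    funext k
    rw [Finset.sum_apply, Finset.sum_eq_single k]
    · simp [Matrix.mulVec, dotProduct, Matrix.single_apply, inv_mul_cancel₀ hi]
    · intro j _ hj
      simp [Matrix.mulVec, dotProduct, Matrix.single_apply, hj]
    · simp
  rw [hv]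
  exact W.sum_mem fun j _ => W.smul_mem _ (hall _ w hw)

end WeylPair

/-! ### The group -/

/-- The hypotheses on `R`. -/
structure Data (r : ℕ) (R : Subgroup (GL ι F)) : Prop where
  card : Fintype.card ι = r
  prime : r.Prime
  scal : ∀ z ∈ R, z ∈ scalars ι F → z ^ r = 1
  comm : ∀ a ∈ R, ∀ b ∈ R, a * b * a⁻¹ * b⁻¹ ∈ scalars ι F
  nonabelian : ∃ a ∈ R, ∃ b ∈ R, a * b ≠ b * a

namespace Data

variable {r : ℕ} {R : Subgroup (GL ι F)}

theorem root_of_scal (h : Data r R) {z : G} (hz : z ∈ R) {c : F} (hc : (z : M) = c • 1) : c ^ r = 1 := by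
  have e := congrArg Units.val (h.scal z hz (val_mem_scalars_iff.2 ⟨c, hc⟩))
  rw [Units.val_pow_eq_pow_val, hc, _root_.smul_pow, one_pow, Units.val_one] at e
  haveI : Nonempty ι := Fintype.card_pos_iff.1 (h.card ▸ h.prime.pos)
  obtain ⟨i⟩ := ‹Nonempty ι›
  simpa using congrFun (congrFun e i) i

theorem exists_comm (h : Data r R) {a b : G} (ha : a ∈ R) (hb : b ∈ R) :
    ∃ c : F, c ^ r = 1 ∧ (a : M) * b = c • ((b : M) * a) ∧ ((a * b * a⁻¹ * b⁻¹ : G) : M) = c • 1 := by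
  obtain ⟨c, hc⟩ := val_mem_scalars_iff.1 (h.comm a ha b hb)
  refine ⟨c, h.root_of_scal (by exact R.mul_mem (R.mul_mem (R.mul_mem ha hb) (R.inv_mem ha)) (R.inv_mem hb)) hc, ?_, hc⟩
  have e : a * b = a * b * a⁻¹ * b⁻¹ * (b * a) := by group
  have e' := congrArg Units.val e
  rw [Units.val_mul, Units.val_mul, hc, smul_mul_assoc, one_mul, Units.val_mul] at e'
  exact e'

theorem pair_of_ne (h : Data r R) {u v : G} (hu : u ∈ R) (hv : v ∈ R) (hne : u * v ≠ v * u) :
    ∃ c : F, WeylPair r c u v ∧ ((u * v * u⁻¹ * v⁻¹ : G) : M) = c • 1 := by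
  obtain ⟨c, hc, h1, h2⟩ := h.exists_comm hu hv
  have hc1 : c ≠ 1 := fun e => hne (Units.ext (by rw [Units.val_mul, Units.val_mul, h1, e, one_smul]))
  refine ⟨c, ⟨h.card, h.prime, ?_, h1⟩, h2⟩
  exact IsPrimitiveRoot.iff_orderOf.2 (by
    haveI := Fact.mk h.prime
    exact orderOf_eq_prime hc hc1)

theorem exists_pair (h : Data r R) : ∃ (ω : F) (x y : G), x ∈ R ∧ y ∈ R ∧ WeylPair r ω x y := by
  obtain ⟨a, ha, b, hb, hne⟩ := h.nonabelian
  obtain ⟨c, hp, -⟩ := h.pair_of_ne ha hb hne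
  exact ⟨c, a, b, ha, hb, hp⟩

/-- Every element of `R` is `ω^c x^a y^b` for every non-commuting pair `x, y`. -/
theorem exists_word (h : Data r R) {ω : F} {x y : G} (hx : x ∈ R) (hy : y ∈ R) (hp : WeylPair r ω x y)
    {g : G} (hg : g ∈ R) :
    ∃ a b c : ℕ, a < r ∧ b < r ∧ c < r ∧ (g : M) = ω ^ c • ((x : M) ^ a * (y : M) ^ b) := by
  haveI : NeZero r := ⟨h.prime.ne_zero⟩
  obtain ⟨cx, hcx, hgx, -⟩ := h.exists_comm hg hx
  obtain ⟨cy, hcy, hgy, -⟩ := h.exists_comm hg hy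
  obtain ⟨a, ha, rfl⟩ := hp.root.eq_pow_of_pow_eq_one hcy
  obtain ⟨i, hi, rfl⟩ := hp.root.eq_pow_of_pow_eq_one hcx
  obtain ⟨b, hb, hbi⟩ : ∃ b, b < r ∧ r ∣ i + b := by
    rcases Nat.eq_zero_or_pos i with h0 | h0
    · exact ⟨0, h.prime.pos, by simp [h0]⟩
    · exact ⟨r - i, by omega, by rw [Nat.add_sub_cancel' hi.le]⟩
  set w : G := x ^ a * y ^ b with hw
  have hwR : w ∈ R := R.mul_mem (R.pow_mem hx a) (R.pow_mem hy b)
  have hwv : (w : M) = (x : M) ^ a * (y : M) ^ b := by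
    rw [hw, Units.val_mul, Units.val_pow_eq_pow_val, Units.val_pow_eq_pow_val]
  have hwx : (x : M) * w = ω ^ b • ((w : M) * x) := by
    rw [hwv, ← mul_assoc, ← pow_succ', pow_succ, mul_assoc, hp.x_ypow, mul_smul_comm, mul_assoc]
  have hwy : (w : M) * y = ω ^ a • ((y : M) * w) := by
    rw [hwv, mul_assoc, ← pow_succ, pow_succ', ← mul_assoc]
    have := hp.xpow_ypow a 1
    rw [pow_one, mul_one] at this
    rw [this, smul_mul_assoc, mul_assoc]
  have hzero : ω ^ (i + b) = 1 := (hp.root.pow_eq_one_iff_dvd _).2 hbi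
  have c1 : ∀ z : G, (∃ k : F, k ≠ 0 ∧ (g : M) * z = k • ((z : M) * g) ∧ (w : M) * z = k • ((z : M) * w)) →
      Commute (w⁻¹ * g) z := by
    rintro z ⟨k, hk, e1, e2⟩
    refine Units.ext ((Units.mul_right_inj w).1 ?_)
    simp only [Units.val_mul]
    rw [← mul_assoc, ← mul_assoc, Units.mul_inv, one_mul, e1, ← mul_assoc (w : M), e2, smul_mul_assoc, mul_assoc,
      ← mul_assoc (w : M), Units.mul_inv, one_mul]
  have hsc : w⁻¹ * g ∈ scalars ι F := by
    refine hp.mem_scalars (c1 x ⟨ω ^ i, pow_ne_zero _ hp.omega_ne_zero, hgx, ?_⟩)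
      (c1 y ⟨ω ^ a, pow_ne_zero _ hp.omega_ne_zero, hgy, hwy⟩)
    rw [hwx, smul_smul, ← pow_add, hzero, one_smul]
  obtain ⟨c, hc⟩ := val_mem_scalars_iff.1 hsc
  obtain ⟨j, hj, hjc⟩ := hp.root.eq_pow_of_pow_eq_one (h.root_of_scal (R.mul_mem (R.inv_mem hwR) hg) hc)
  refine ⟨a, b, j, ha, hb, hj, ?_⟩
  have e : (g : M) = (w : M) * ((w⁻¹ * g : G) : M) := by rw [← Units.val_mul, mul_inv_cancel_left]
  rw [e, hc, ← hjc, mul_smul_comm, mul_one, hwv]

theorem commute_of_scal {z g : G} {c : F} (hc : (z : M) = c • 1) : Commute z g :=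
  Units.ext (by rw [Units.val_mul, Units.val_mul, hc, smul_mul_assoc, one_mul, mul_smul_comm, mul_one])

theorem exists_zeta (h : Data r R) {ω : F} {x y : G} (hx : x ∈ R) (hy : y ∈ R) (hp : WeylPair r ω x y) :
    ∃ z ∈ R, (z : M) = ω • 1 := by
  have hne : x * y ≠ y * x := by
    intro e
    have e' := hp.rel
    rw [← Units.val_mul, e, Units.val_mul] at e'
    have h1 : ((1 : F) - ω) • ((y : M) * x) = 0 := by rw [sub_smul, one_smul, ← e', sub_self]
    haveI := hp.nonempty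
    rcases smul_eq_zero.1 h1 with h2 | h2
    · exact hp.root.ne_one hp.prime.one_lt (sub_eq_zero.1 h2).symm
    · exact (y * x : G).ne_zero (by rw [Units.val_mul, h2])
  obtain ⟨c, hp', hc⟩ := h.pair_of_ne hx hy hne
  refine ⟨x * y * x⁻¹ * y⁻¹, R.mul_mem (R.mul_mem (R.mul_mem hx hy) (R.inv_mem hx)) (R.inv_mem hy), ?_⟩
  haveI := hp.nonempty
  have e : (ω - c) • ((y : M) * x) = 0 := by rw [sub_smul, ← hp.rel, ← hp'.rel, sub_self]
  rcases smul_eq_zero.1 e with h2 | h2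
  · rw [sub_eq_zero.1 h2]; exact hc
  · exact absurd (by rw [Units.val_mul, h2]) (y * x : G).ne_zero

theorem card_eq (h : Data r R) : Nat.card R = r ^ 3 := by
  obtain ⟨ω, x, y, hx, hy, hp⟩ := h.exists_pair
  obtain ⟨z, hz, hzv⟩ := h.exists_zeta hx hy hp
  let φ : Fin r × Fin r × Fin r → R := fun t =>
    ⟨z ^ (t.2.2 : ℕ) * (x ^ (t.1 : ℕ) * y ^ (t.2.1 : ℕ)),
      R.mul_mem (R.pow_mem hz _) (R.mul_mem (R.pow_mem hx _) (R.pow_mem hy _))⟩
  have hφ : ∀ t, ((φ t : G) : M) = ω ^ (t.2.2 : ℕ) • ((x : M) ^ (t.1 : ℕ) * (y : M) ^ (t.2.1 : ℕ)) := by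
    intro t
    simp only [φ, Units.val_mul, Units.val_pow_eq_pow_val, hzv, _root_.smul_pow, one_pow, smul_mul_assoc, one_mul]
  have hinj : Function.Injective φ := by
    rintro ⟨a, b, c⟩ ⟨a', b', c'⟩ e
    have e' := congrArg (fun g : R => ((g : G) : M)) e
    simp only [hφ] at e'
    have hne : ∀ k : Fin r, ω ^ (k : ℕ) ≠ 0 := fun k => pow_ne_zero _ hp.omega_ne_zero
    have hli := hp.linearIndependent
    by_cases hab : (a, b) = (a', b')
    · obtain ⟨rfl, rfl⟩ := Prod.mk.injEq .. ▸ hab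
      haveI := hp.nonempty
      have e2 : (ω ^ (c : ℕ) - ω ^ (c' : ℕ)) • ((x : M) ^ (a : ℕ) * (y : M) ^ (b : ℕ)) = 0 := by
        rw [sub_smul, e', sub_self]
      rcases smul_eq_zero.1 e2 with h2 | h2
      · rw [Fin.ext (hp.root.pow_inj c.isLt c'.isLt (sub_eq_zero.1 h2))]
      · exact absurd h2 (hli.ne_zero (a, b))
    · exact absurd (left_eq_zero hli hab (show ω ^ (c : ℕ) • _ + -(ω ^ (c' : ℕ)) • _ = 0 by
        rw [neg_smul, e', add_neg_cancel])) (hne c)
  have hsur : Function.Surjective φ := by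
    rintro ⟨g, hg⟩
    obtain ⟨a, b, c, ha, hb, hc, e⟩ := h.exists_word hx hy hp hg
    exact ⟨(⟨a, ha⟩, ⟨b, hb⟩, ⟨c, hc⟩), Subtype.ext (Units.ext (by rw [hφ]; exact e.symm))⟩
  rw [← Nat.card_congr (Equiv.ofBijective φ ⟨hinj, hsur⟩)]
  simp only [Nat.card_prod, Nat.card_fin]
  ring

theorem pGroup (h : Data r R) : IsPGroup r R := IsPGroup.of_card h.card_eq

/-- Scalar elements of `R` are the centre. -/
theorem mem_center_iff (h : Data r R) (g : R) : g ∈ Subgroup.center R ↔ (g : G) ∈ scalars ι F := by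
  rw [Subgroup.mem_center_iff]
  constructor
  · intro hg
    obtain ⟨ω, x, y, hx, hy, hp⟩ := h.exists_pair
    exact hp.mem_scalars (congrArg Subtype.val (hg ⟨x, hx⟩)).symm (congrArg Subtype.val (hg ⟨y, hy⟩)).symm
  · intro hg k
    obtain ⟨c, hc⟩ := val_mem_scalars_iff.1 hg
    exact Subtype.ext (commute_of_scal hc).eq.symm

theorem card_center (h : Data r R) : Nat.card (Subgroup.center R) = r := by
  obtain ⟨ω, x, y, hx, hy, hp⟩ := h.exists_pair
  obtain ⟨z, hz, hzv⟩ := h.exists_zeta hx hy hp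
  haveI : NeZero r := ⟨h.prime.ne_zero⟩
  haveI := hp.nonempty
  let φ : Fin r → Subgroup.center R := fun k => ⟨⟨z ^ (k : ℕ), R.pow_mem hz _⟩, (h.mem_center_iff _).2
    (val_mem_scalars_iff.2 ⟨ω ^ (k : ℕ), by
      show ((z ^ (k : ℕ) : G) : M) = _
      rw [Units.val_pow_eq_pow_val, hzv, _root_.smul_pow, one_pow]⟩)⟩
  have hinj : Function.Injective φ := by
    intro a b e
    have e' := congrArg (fun g : Subgroup.center R => (((g : R) : G) : M)) e
    simp only [φ, Units.val_pow_eq_pow_val, hzv, _root_.smul_pow, one_pow] at e'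
    obtain ⟨i⟩ := hp.nonempty
    have := congrFun (congrFun e' i) i
    simp at this
    exact Fin.ext (hp.root.pow_inj a.isLt b.isLt this)
  have hsur : Function.Surjective φ := by
    rintro ⟨⟨g, hg⟩, hgc⟩
    obtain ⟨c, hc⟩ := val_mem_scalars_iff.1 ((h.mem_center_iff _).1 hgc)
    obtain ⟨j, hj, rfl⟩ := hp.root.eq_pow_of_pow_eq_one (h.root_of_scal hg hc)
    refine ⟨⟨j, hj⟩, Subtype.ext (Subtype.ext (Units.ext ?_))⟩
    show ((z ^ j : G) : M) = (g : M)
    rw [Units.val_pow_eq_pow_val, hzv, _root_.smul_pow, one_pow, hc]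
  rw [← Nat.card_congr (Equiv.ofBijective φ ⟨hinj, hsur⟩), Nat.card_fin]

theorem absIrred (h : Data r R) : ActsAbsolutelyIrreducibly (matrixSet R) := by
  obtain ⟨ω, x, y, hx, hy, hp⟩ := h.exists_pair
  exact ⟨hp.irreducible ⟨x, hx, rfl⟩ ⟨y, hy, rfl⟩,
    fun m hm => hp.eq_smul_one (hm _ ⟨x, hx, rfl⟩) (hm _ ⟨y, hy, rfl⟩)⟩

/-- No abelian normalised subgroup outside the scalars forces exponent `r`. -/
theorem pow_eq_one (h : Data r R) (hodd : Odd r) (H : Subgroup G) (hn : ∀ k ∈ H, ∀ g ∈ R, k * g * k⁻¹ ∈ R)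
    (hab : ∀ A : Subgroup G, A ≤ R → (∀ k ∈ H, ∀ a ∈ A, k * a * k⁻¹ ∈ A) →
      (∀ a ∈ A, ∀ b ∈ A, a * b = b * a) → A ≤ scalars ι F)
    {g : G} (hg : g ∈ R) : g ^ r = 1 := by
  obtain ⟨ω, x, y, hx, hy, hp⟩ := h.exists_pair
  obtain ⟨z, hz, hzv⟩ := h.exists_zeta hx hy hp
  have hzc : ∀ a : G, Commute z a := fun a => commute_of_scal hzv
  have hmul : ∀ a ∈ R, ∀ b ∈ R, (a * b) ^ r = a ^ r * b ^ r := by
    intro a ha b hb
    obtain ⟨c, hc, hab', hcv⟩ := h.exists_comm ha hb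
    have hc0 : c ≠ 0 := fun e => by rw [e, zero_pow h.prime.ne_zero] at hc; exact zero_ne_one hc
    have hba : (b : M) * a = c⁻¹ • ((a : M) * b) := by rw [hab', inv_smul_smul₀ hc0]
    have hbk : ∀ k : ℕ, (b : M) ^ k * a = (c⁻¹) ^ k • ((a : M) * (b : M) ^ k) := by
      intro k
      induction k with
      | zero => simp
      | succ k ih =>
        rw [pow_succ, mul_assoc, hba, mul_smul_comm, ← mul_assoc, ih, smul_mul_assoc, smul_smul, mul_assoc,
          ← pow_succ, ← pow_succ']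
    have key : ∀ k : ℕ, ((a : M) * b) ^ k = (c⁻¹) ^ (k.choose 2) • ((a : M) ^ k * (b : M) ^ k) := by
      intro k
      induction k with
      | zero => simp
      | succ k ih =>
        rw [pow_succ, ih, smul_mul_assoc, mul_assoc, ← mul_assoc ((b : M) ^ k), hbk, smul_mul_assoc, mul_smul_comm,
          smul_smul, ← pow_add, Nat.choose_succ_succ, Nat.choose_one_right, add_comm k, pow_succ, pow_succ]
        simp only [mul_assoc]
    refine Units.ext ?_
    have hdvd : r ∣ r.choose 2 :=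
      h.prime.dvd_choose_self (by norm_num) (by have := h.prime.two_le; rcases hodd with ⟨m, hm⟩; omega)
    obtain ⟨m, hm⟩ := hdvd
    rw [Units.val_pow_eq_pow_val, Units.val_mul, key, hm, pow_mul, inv_pow, hc, inv_one, one_pow, one_smul,
      Units.val_mul, Units.val_pow_eq_pow_val, Units.val_pow_eq_pow_val]
  let K : Subgroup G :=
    { carrier := {a | a ∈ R ∧ a ^ r = 1}
      mul_mem' := by
        rintro a b ⟨ha, ha'⟩ ⟨hb, hb'⟩
        exact ⟨R.mul_mem ha hb, by rw [hmul a ha b hb, ha', hb', one_mul]⟩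
      one_mem' := ⟨R.one_mem, one_pow r⟩
      inv_mem' := by
        rintro a ⟨ha, ha'⟩
        exact ⟨R.inv_mem ha, by rw [inv_pow, ha', inv_one]⟩ }
  have hKR : K ≤ R := fun a ha => ha.1
  have hKn : ∀ k ∈ H, ∀ a ∈ K, k * a * k⁻¹ ∈ K := fun k hk a ha =>
    ⟨hn k hk a ha.1, by rw [conj_pow, ha.2, mul_one, mul_inv_cancel]⟩
  have hzK : ∀ j : ℕ, z ^ j ∈ K := fun j =>
    K.pow_mem ⟨hz, h.scal z hz (val_mem_scalars_iff.2 ⟨ω, hzv⟩)⟩ j
  by_cases hcomm : ∀ a ∈ K, ∀ b ∈ K, a * b = b * a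
  swap
  · push Not at hcomm
    obtain ⟨u, hu, v, hv, huv⟩ := hcomm
    obtain ⟨c, hp', hcv⟩ := h.pair_of_ne hu.1 hv.1 huv
    obtain ⟨a, b, j, -, -, -, e⟩ := h.exists_word hu.1 hv.1 hp' hg
    have hcK : u * v * u⁻¹ * v⁻¹ ∈ K :=
      K.mul_mem (K.mul_mem (K.mul_mem hu hv) (K.inv_mem hu)) (K.inv_mem hv)
    have : g = (u * v * u⁻¹ * v⁻¹) ^ j * (u ^ a * v ^ b) := by
      refine Units.ext ?_
      rw [Units.val_mul, Units.val_pow_eq_pow_val, hcv, Units.val_mul, Units.val_pow_eq_pow_val,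
        Units.val_pow_eq_pow_val, _root_.smul_pow, one_pow, smul_mul_assoc, one_mul]
      exact e
    rw [this]
    exact (K.mul_mem (K.pow_mem hcK j) (K.mul_mem (K.pow_mem hu a) (K.pow_mem hv b))).2
  exfalso
  have hsc := hab K hKR hKn hcomm
  -- every power `a ^ r` is scalar
  have hpsc : ∀ a ∈ R, ∃ i : ℕ, i < r ∧ a ^ r = z ^ i := by
    intro a ha
    have hcm : ∀ b ∈ R, Commute (a ^ r) b := by
      intro b hb
      obtain ⟨c, hc, hab', -⟩ := h.exists_comm ha hb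
      have hpow : ∀ k : ℕ, (a : M) ^ k * b = c ^ k • ((b : M) * (a : M) ^ k) := by
        intro k
        induction k with
        | zero => simp
        | succ k ih =>
          rw [pow_succ, mul_assoc, hab', mul_smul_comm, ← mul_assoc, ih, smul_mul_assoc, smul_smul, mul_assoc,
            ← pow_succ, ← pow_succ']
      refine Units.ext ?_
      rw [Units.val_mul, Units.val_mul, Units.val_pow_eq_pow_val, hpow, hc, one_smul]
    obtain ⟨c, hc⟩ := val_mem_scalars_iff.1 (hp.mem_scalars (hcm x hx) (hcm y hy))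
    haveI : NeZero r := ⟨h.prime.ne_zero⟩
    obtain ⟨i, hi, rfl⟩ := hp.root.eq_pow_of_pow_eq_one (h.root_of_scal (R.pow_mem ha r) hc)
    exact ⟨i, hi, Units.ext (by rw [hc, Units.val_pow_eq_pow_val, hzv, _root_.smul_pow, one_pow])⟩
  obtain ⟨i, hi, hxi⟩ := hpsc x hx
  obtain ⟨j, hj, hyj⟩ := hpsc y hy
  -- a word outside the scalars in the kernel
  obtain ⟨a, b, ha, hb, hne, hker⟩ : ∃ a b : ℕ, a < r ∧ b < r ∧ (a, b) ≠ (0, 0) ∧ r ∣ i * a + j * b := by
    rcases Nat.eq_zero_or_pos i with h0 | h0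
    · exact ⟨1, 0, h.prime.one_lt, h.prime.pos, by simp, by simp [h0]⟩
    rcases Nat.eq_zero_or_pos j with h1 | h1
    · exact ⟨0, 1, h.prime.pos, h.prime.one_lt, by simp, by simp [h1]⟩
    refine ⟨j, r - i, hj, by omega, by simp; omega, ⟨j, ?_⟩⟩
    rw [mul_comm i j, ← mul_add, Nat.add_sub_cancel' hi.le, mul_comm]
  have hw : x ^ a * y ^ b ∈ K := by
    refine ⟨R.mul_mem (R.pow_mem hx a) (R.pow_mem hy b), ?_⟩
    obtain ⟨m, hm⟩ := hker
    rw [hmul _ (R.pow_mem hx a) _ (R.pow_mem hy b), ← pow_mul, ← pow_mul, mul_comm a, mul_comm b, pow_mul, pow_mul,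
      hxi, hyj, ← pow_mul, ← pow_mul, ← pow_add, hm, pow_mul, h.scal z hz (val_mem_scalars_iff.2 ⟨ω, hzv⟩), one_pow]
  obtain ⟨c, hc⟩ := val_mem_scalars_iff.1 (hsc hw)
  rw [Units.val_mul, Units.val_pow_eq_pow_val, Units.val_pow_eq_pow_val] at hc
  refine one_ne_zero (α := F) (left_eq_zero hp.linearIndependent (p := (⟨a, ha⟩, ⟨b, hb⟩))
    (q := (⟨0, h.prime.pos⟩, ⟨0, h.prime.pos⟩)) (t := -c) ?_ ?_)
  · simpa [Prod.ext_iff, Fin.ext_iff] using hne
  · simp [hc]

/-- The symplectic type part of the class-6 data. -/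
theorem symplecticType (h : Data r R) (hodd : Odd r) (H : Subgroup G) (hn : ∀ k ∈ H, ∀ g ∈ R, k * g * k⁻¹ ∈ R)
    (hab : ∀ A : Subgroup G, A ≤ R → (∀ k ∈ H, ∀ a ∈ A, k * a * k⁻¹ ∈ A) →
      (∀ a ∈ A, ∀ b ∈ A, a * b = b * a) → A ≤ scalars ι F) : IsSymplecticTypeGroup r R := by
  haveI := Fact.mk h.prime
  refine ⟨h.prime, h.pGroup, fun A hA hcA => ?_, ?_⟩
  · have hle : A ≤ Subgroup.center R := by
      intro a ha
      refine (h.mem_center_iff a).2 (hab (A.map R.subtype) (Subgroup.map_subtype_le A) ?_ ?_ ⟨a, ha, rfl⟩)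
      · rintro k hk _ ⟨b, hb, rfl⟩
        let e : R ≃* R :=
          { toFun := fun g => ⟨k * g * k⁻¹, hn k hk g g.2⟩
            invFun := fun g => ⟨k⁻¹ * g * k, by simpa using hn k⁻¹ (H.inv_mem hk) g g.2⟩
            left_inv := fun g => Subtype.ext (by simp [mul_assoc])
            right_inv := fun g => Subtype.ext (by simp [mul_assoc])
            map_mul' := fun g g' => Subtype.ext (by simp [mul_assoc]) }
        exact ⟨e b, (Subgroup.characteristic_iff_map_le.1 hA e) ⟨b, hb, rfl⟩, rfl⟩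
      · rintro _ ⟨b, hb, rfl⟩ _ ⟨b', hb', rfl⟩
        exact congrArg (fun t : A => ((t : R) : G)) (hcA.is_comm.comm ⟨b, hb⟩ ⟨b', hb'⟩)
    haveI : IsCyclic (Subgroup.center R) := isCyclic_of_prime_card h.card_center
    exact isCyclic_of_injective (Subgroup.inclusion hle) (Subgroup.inclusion_injective hle)
  · rw [(Nat.coprime_two_left.2 hodd).symm.gcd_eq_one |> fun e => (Nat.gcd_comm 2 r).trans e, mul_one]
    refine (h.prime.eq_one_or_self_of_dvd _ (Monoid.exponent_dvd_of_forall_pow_eq_one fun g =>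
      Subtype.ext (h.pow_eq_one hodd H hn hab g.2))).resolve_left fun e => ?_
    haveI : Subsingleton R := Monoid.exp_eq_one_iff.1 e
    have := h.card_eq
    rw [Nat.card_of_subsingleton (1 : R)] at this
    exact absurd this.symm (Nat.one_lt_pow (by norm_num) h.prime.one_lt).ne'

end Data

namespace WeylPair

variable {r : ℕ} {ω : F} {x y : GL ι F}

/-- A basis in which `x` is diagonal and `y` a cyclic shift. -/
theorem exists_basis (h : WeylPair r ω x y) (hx : x ^ r = 1) (hy : y ^ r = 1) :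
    ∃ (e : ι ≃ Fin r) (v : ι → F) (P : GL ι F),
      (∀ i, (fun k => (P : M) k i) = (y : M) ^ (e i : ℕ) *ᵥ v) ∧ (x : M) *ᵥ v = v ∧
      ∀ (a b : ℕ) (i : ι), ((x : M) ^ a * (y : M) ^ b) *ᵥ (fun k => (P : M) k i) =
        ω ^ (a * (b + (e i : ℕ))) • fun k => (P : M) k (e.symm ⟨(b + (e i : ℕ)) % r, Nat.mod_lt _ h.prime.pos⟩) := by
  obtain ⟨e⟩ : Nonempty (ι ≃ Fin r) := ⟨Fintype.equivFinOfCardEq h.card⟩
  have hx' : (x : M) ^ r = 1 := by rw [← Units.val_pow_eq_pow_val, hx, Units.val_one]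
  have hy' : (y : M) ^ r = 1 := by rw [← Units.val_pow_eq_pow_val, hy, Units.val_one]
  set E : M := ∑ k : Fin r, (x : M) ^ (k : ℕ) with hE
  have hxE : (x : M) * E = E := by
    have h1 := geom_sum_mul_comm' (x : M) r hx'
    rw [hE, Fin.sum_univ_eq_sum_range (fun k => (x : M) ^ k)]
    exact h1
  have hE0 : E ≠ 0 := by
    intro h0
    have h1 := Fintype.linearIndependent_iff.1 h.linearIndependent
      (fun ab => if (ab.2 : ℕ) = 0 then 1 else 0) ?_ (⟨0, h.prime.pos⟩, ⟨0, h.prime.pos⟩)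
    · simp at h1
    rw [Fintype.sum_prod_type, ← h0, hE]
    refine Finset.sum_congr rfl fun a _ => ?_
    rw [Finset.sum_eq_single (⟨0, h.prime.pos⟩ : Fin r)]
    · simp
    · intro b _ hb
      rw [if_neg (fun hb' => hb (Fin.ext hb')), zero_smul]
    · simp
  obtain ⟨w, hw⟩ : ∃ w, E *ᵥ w ≠ 0 := by
    by_contra hcon
    push Not at hcon
    exact hE0 (Matrix.toLin'.injective (LinearMap.ext fun w => by simp [hcon w]))
  set v := E *ᵥ w with hv
  have hxv : (x : M) *ᵥ v = v := by rw [hv, Matrix.mulVec_mulVec, hxE]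
  have hxav : ∀ a : ℕ, (x : M) ^ a *ᵥ v = v := by
    intro a
    induction a with
    | zero => simp
    | succ a ih => rw [pow_succ, ← Matrix.mulVec_mulVec, hxv, ih]
  have hcol : ∀ a b : ℕ, ((x : M) ^ a * (y : M) ^ b) *ᵥ v = ω ^ (a * b) • ((y : M) ^ b *ᵥ v) := by
    intro a b
    rw [h.xpow_ypow, Matrix.smul_mulVec, ← Matrix.mulVec_mulVec, hxav]
  set Pm : M := Matrix.of fun k i => ((y : M) ^ (e i : ℕ) *ᵥ v) k with hPm
  have hli : LinearIndependent F fun i : ι => (y : M) ^ (e i : ℕ) *ᵥ v := by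
    rw [Fintype.linearIndependent_iff]
    intro c hc i
    have hz : ∀ b : Fin r, c (e.symm b) • ((y : M) ^ (b : ℕ) *ᵥ v) = 0 := by
      refine filter_zero h.root h.cast_ne_zero _ fun k => ?_
      have h1 := congrArg (fun u => (x : M) ^ k *ᵥ u) hc
      simp only [Matrix.mulVec_sum, Matrix.mulVec_smul, Matrix.mulVec_mulVec, hcol, Matrix.mulVec_zero] at h1
      rw [← e.symm.sum_comp] at h1
      simpa only [Equiv.apply_symm_apply, smul_comm (ω ^ (k * _))] using h1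
    have h2 := hz (e i)
    rw [Equiv.symm_apply_apply] at h2
    refine (smul_eq_zero.1 h2).resolve_right fun h3 => hw ?_
    have h4 : v = ((y⁻¹ : G) : M) ^ (e i : ℕ) *ᵥ ((y : M) ^ (e i : ℕ) *ᵥ v) := by
      rw [Matrix.mulVec_mulVec, ← Units.val_pow_eq_pow_val, ← Units.val_pow_eq_pow_val, ← Units.val_mul, inv_pow,
        inv_mul_cancel, Units.val_one, Matrix.one_mulVec]
    rw [h4, h3, Matrix.mulVec_zero]
  have hu : IsUnit Pm := Matrix.linearIndependent_cols_iff_isUnit.1 (by exact hli)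
  refine ⟨e, v, hu.unit, fun i => rfl, hxv, fun a b i => ?_⟩
  show ((x : M) ^ a * (y : M) ^ b) *ᵥ ((y : M) ^ (e i : ℕ) *ᵥ v) =
    ω ^ (a * (b + (e i : ℕ))) • ((y : M) ^ ((e (e.symm ⟨(b + (e i : ℕ)) % r, _⟩) : Fin r) : ℕ) *ᵥ v)
  rw [Equiv.apply_symm_apply, ← pow_eq_pow_mod _ hy', Matrix.mulVec_mulVec, mul_assoc, ← pow_add, hcol]
where
  geom_sum_mul_comm' (m : Matrix ι ι F) (n : ℕ) (hm : m ^ n = 1) :
      m * ∑ k ∈ range n, m ^ k = ∑ k ∈ range n, m ^ k := by
    have h1 := geom_sum_mul m n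
    have h2 := mul_geom_sum m n
    rw [hm, sub_self, sub_mul, one_mul, sub_eq_zero] at h2
    exact h2

end WeylPair

namespace Data

variable {r : ℕ} {R : Subgroup (GL ι F)}

theorem realisableOver (h : Data r R) (hexp : ∀ g ∈ R, g ^ r = 1) {ω : F} (hω : IsPrimitiveRoot ω r)
    (F₀ : Subfield F) (hF₀ : ω ∈ F₀) : RealisableOver F₀ (matrixSet R) := by
  obtain ⟨ω', x, y, hx, hy, hp⟩ := h.exists_pair
  obtain ⟨e, v, P, hP, -, hact⟩ := hp.exists_basis (hexp x hx) (hexp y hy)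
  haveI : NeZero r := ⟨h.prime.ne_zero⟩
  have hω' : ω' ∈ F₀ := by
    obtain ⟨i, -, rfl⟩ := hω.eq_pow_of_pow_eq_one hp.root.pow_eq_one
    exact pow_mem hF₀ i
  refine ⟨P⁻¹, ?_⟩
  rintro _ ⟨g, hg, rfl⟩ k i
  obtain ⟨a, b, c, -, -, -, hgw⟩ := h.exists_word hx hy hp hg
  simp only [inv_inv]
  set j := e.symm ⟨(b + (e i : ℕ)) % r, Nat.mod_lt _ h.prime.pos⟩ with hj
  have hcol : ∀ k', ((g : M) * (P : M)) k' i = ω' ^ c * ω' ^ (a * (b + (e i : ℕ))) * (P : M) k' j := by
    intro k'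
    have h1 := congrFun (hact a b i) k'
    rw [hgw, Matrix.smul_mul, Matrix.smul_apply, smul_eq_mul, mul_assoc (ω' ^ c)]
    exact congrArg (ω' ^ c * ·) h1
  have hval : ((P⁻¹ : G) : M) * (g : M) * (P : M) = ((P⁻¹ : G) : M) * ((g : M) * (P : M)) := mul_assoc _ _ _
  show (((P⁻¹ : G) : M) * (g : M) * (P : M)) k i ∈ F₀
  rw [hval, Matrix.mul_apply]
  simp only [hcol, mul_left_comm _ (ω' ^ c * ω' ^ (a * (b + (e i : ℕ))))]
  rw [← Finset.mul_sum, ← Matrix.mul_apply, Units.inv_mul, Matrix.one_apply]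
  split_ifs
  · rw [mul_one]; exact mul_mem (pow_mem hω' _) (pow_mem hω' _)
  · rw [mul_zero]; exact F₀.zero_mem

/-- A unitary form fixed by `R`; it is preserved up to a scalar by the normaliser. -/
theorem exists_unitary (h : Data r R) (hexp : ∀ g ∈ R, g ^ r = 1) {ω : F} (hω : IsPrimitiveRoot ω r)
    (σ : F ≃+* F) (hσ : ∀ a, σ (σ a) = a) (hne : σ ≠ RingEquiv.refl F) (hσω : σ ω = ω⁻¹) :
    ∃ f : (ι → F) → (ι → F) → F, IsUnitaryForm σ f ∧ FixesForm (matrixSet R) f ∧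
      subgroupNormalizer R ≤ similarityGroup f := by
  obtain ⟨ω', x, y, hx, hy, hp⟩ := h.exists_pair
  obtain ⟨e, v, P, hP, -, hact⟩ := hp.exists_basis (hexp x hx) (hexp y hy)
  haveI : NeZero r := ⟨h.prime.ne_zero⟩
  have hσω' : σ ω' = ω'⁻¹ := by
    obtain ⟨i, -, rfl⟩ := hω.eq_pow_of_pow_eq_one hp.root.pow_eq_one
    rw [map_pow, hσω, inv_pow]
  have hω0 := hp.omega_ne_zero
  have hunit : ∀ n : ℕ, ω' ^ n * σ (ω' ^ n) = 1 := fun n => by
    rw [map_pow, hσω', inv_pow, mul_inv_cancel₀ (pow_ne_zero _ hω0)]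
  let co : (ι → F) → ι → F := fun u => ((P⁻¹ : G) : M) *ᵥ u
  have hPco : ∀ u, (P : M) *ᵥ co u = u := fun u => by
    show (P : M) *ᵥ (((P⁻¹ : G) : M) *ᵥ u) = u
    rw [Matrix.mulVec_mulVec, Units.mul_inv, Matrix.one_mulVec]
  have hcoP : ∀ u, co ((P : M) *ᵥ u) = u := fun u => by
    show ((P⁻¹ : G) : M) *ᵥ ((P : M) *ᵥ u) = u
    rw [Matrix.mulVec_mulVec, Units.inv_mul, Matrix.one_mulVec]
  let f : (ι → F) → (ι → F) → F := fun u w => ∑ i, co u i * σ (co w i)
  let sh : ℕ → ι ≃ ι := fun b => (e.trans (Equiv.addRight (Fin.ofNat r b))).trans e.symm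
  have hsh : ∀ b i, e.symm ⟨(b + (e i : ℕ)) % r, Nat.mod_lt _ h.prime.pos⟩ = sh b i := by
    intro b i
    show _ = e.symm (e i + Fin.ofNat r b)
    congr 1
    refine Fin.ext ?_
    rw [Fin.val_add, Fin.val_ofNat, Nat.add_mod_mod, add_comm]
  -- action on coordinates
  have hactc : ∀ g ∈ R, ∃ (b : ℕ) (d : ι → F), (∀ i, d i * σ (d i) = 1) ∧
      ∀ u i, co ((g : M) *ᵥ u) (sh b i) = d i * co u i := by
    intro g hg
    obtain ⟨a, b, c, -, -, -, hgw⟩ := h.exists_word hx hy hp hg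
    refine ⟨b, fun i => ω' ^ (c + a * (b + (e i : ℕ))), fun i => hunit _, fun u i => ?_⟩
    have hg' : (g : M) *ᵥ u = (P : M) *ᵥ fun k => ω' ^ (c + a * (b + (e ((sh b).symm k) : ℕ))) * co u ((sh b).symm k) := by
      conv_lhs => rw [← hPco u]
      funext k
      rw [Matrix.mulVec_mulVec]
      simp only [Matrix.mulVec, dotProduct]
      rw [← (sh b).sum_comp (fun k' => (P : M) k k' * _)]
      refine Finset.sum_congr rfl fun i _ => ?_
      have h1 := congrFun (hact a b i) k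
      rw [Equiv.symm_apply_apply, hgw, Matrix.smul_mul, Matrix.smul_apply, smul_eq_mul]
      rw [show ((x : M) ^ a * (y : M) ^ b * (P : M)) k i = (((x : M) ^ a * (y : M) ^ b) *ᵥ fun k' => (P : M) k' i) k
        from rfl, h1, Pi.smul_apply, smul_eq_mul, hsh, pow_add]
      ring
    rw [hg', hcoP, Equiv.symm_apply_apply]
  have hfix : FixesForm (matrixSet R) f := by
    rintro _ ⟨g, hg, rfl⟩ u w
    obtain ⟨b, d, hd, hco⟩ := hactc g hg
    show ∑ i, _ = ∑ i, _
    rw [← (sh b).sum_comp]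
    refine Finset.sum_congr rfl fun i _ => ?_
    rw [hco, hco, map_mul, mul_mul_mul_comm, hd, one_mul]
  have hU : IsUnitaryForm σ f := by
    refine ⟨hne, hσ, fun a b w => ?_, fun c a w => ?_, fun a b => ?_, fun u hu => ?_⟩
    · simp only [f, co, Matrix.mulVec_add, Pi.add_apply, add_mul, Finset.sum_add_distrib]
    · simp only [f, co, Matrix.mulVec_smul, Pi.smul_apply, smul_eq_mul, Finset.mul_sum, mul_assoc]
    · simp only [f, map_sum, map_mul, hσ, mul_comm]
    · obtain ⟨i, hi⟩ : ∃ i, co u i ≠ 0 := by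
        by_contra hcon
        push Not at hcon
        exact hu (by rw [← hPco u, show co u = 0 from funext hcon, Matrix.mulVec_zero])
      refine ⟨⟨(P : M) *ᵥ Pi.single i 1, ?_⟩, ⟨(P : M) *ᵥ Pi.single i 1, ?_⟩⟩
      · simp only [f, hcoP]
        simpa [Pi.single_apply] using hi
      · simp only [f, hcoP]
        simpa [Pi.single_apply] using hi
  refine ⟨f, hU, hfix, fun n hn => ?_⟩
  -- the form pulled back by `n` is fixed by `R`
  let g' : (ι → F) → (ι → F) → F := fun u w => f ((n : M) *ᵥ u) ((n : M) *ᵥ w)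
  have hgfix : ∀ s ∈ R, ∀ u w, g' ((s : M) *ᵥ u) ((s : M) *ᵥ w) = g' u w := by
    intro s hs u w
    have hs' : n * s * n⁻¹ ∈ R := (Subgroup.mem_normalizer_iff.1 hn s).1 hs
    have e1 : ∀ z, (n : M) *ᵥ ((s : M) *ᵥ z) = ((n * s * n⁻¹ : G) : M) *ᵥ ((n : M) *ᵥ z) := by
      intro z
      rw [Matrix.mulVec_mulVec, Matrix.mulVec_mulVec, ← Units.val_mul, ← Units.val_mul, inv_mul_cancel_right]
    show f _ _ = f _ _
    rw [e1, e1]
    exact hfix _ ⟨_, hs', rfl⟩ _ _
  let col : ι → ι → F := fun i k => (P : M) k i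
  have hx1 : ∀ i, (x : M) *ᵥ col i = ω' ^ (e i : ℕ) • col i := by
    intro i
    have := hact 1 0 i
    simp only [pow_one, pow_zero, mul_one, zero_add, one_mul, Nat.mod_eq_of_lt (e i).isLt, Fin.eta,
      Equiv.symm_apply_apply] at this
    exact this
  have hy1 : ∀ i, (y : M) *ᵥ col i = col (sh 1 i) := by
    intro i
    have := hact 0 1 i
    simp only [pow_one, pow_zero, zero_mul, one_mul, hsh, one_smul] at this
    exact this
  have hgsm : ∀ (a b : F) u w, g' (a • u) (b • w) = a * σ b * g' u w := by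
    intro a b u w
    simp only [g', f, co, Matrix.mulVec_smul, Pi.smul_apply, smul_eq_mul, map_mul, Finset.mul_sum]
    exact Finset.sum_congr rfl fun i _ => by ring
  have hoff : ∀ i j, i ≠ j → g' (col i) (col j) = 0 := by
    intro i j hij
    have h1 := hgfix x hx (col i) (col j)
    rw [hx1, hx1, hgsm, map_pow, hσω', inv_pow] at h1
    have h2 : ω' ^ (e i : ℕ) * (ω' ^ (e j : ℕ))⁻¹ ≠ 1 := by
      intro h3
      rw [mul_inv_eq_one₀ (pow_ne_zero _ hω0)] at h3
      exact hij (e.injective (Fin.ext (hp.root.pow_inj (e i).isLt (e j).isLt h3)))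
    exact by_contra fun h3 => h2 ((mul_eq_right₀ h3).1 h1)
  obtain ⟨i₀, hi₀⟩ : ∃ i₀, (e i₀ : ℕ) = 0 := ⟨e.symm 0, by simp⟩
  set d := g' (col i₀) (col i₀) with hd
  have hdiag : ∀ (m : ℕ) i, (e i : ℕ) = m → g' (col i) (col i) = d := by
    intro m
    induction m with
    | zero => intro i hi; rw [show i = i₀ from e.injective (Fin.ext (hi.trans hi₀.symm))]
    | succ m ih =>
      intro i hi
      have hm : m < r := by have := (e i).isLt; omega
      have := hgfix y hy (col (e.symm ⟨m, hm⟩)) (col (e.symm ⟨m, hm⟩))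
      rw [hy1] at this
      have hsi : sh 1 (e.symm ⟨m, hm⟩) = i := by
        refine e.injective (Fin.ext ?_)
        show ((e (e.symm (e (e.symm ⟨m, hm⟩) + Fin.ofNat r 1)) : Fin r) : ℕ) = _
        rw [Equiv.apply_symm_apply, Equiv.apply_symm_apply, Fin.val_add, Fin.val_ofNat, Nat.add_mod_mod, hi,
          Nat.mod_eq_of_lt]
        have := (e i).isLt
        have : ((⟨m, hm⟩ : Fin r) : ℕ) = m := rfl
        omega
      rw [hsi] at this
      rw [this, ih _ (by simp)]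
  have hdec : ∀ u : ι → F, u = ∑ i, co u i • col i := by
    intro u
    conv_lhs => rw [← hPco u]
    funext k
    simp [Matrix.mulVec, dotProduct, col, mul_comm]
  have hsum : ∀ (c c' : ι → F), g' (∑ i, c i • col i) (∑ j, c' j • col j) =
      ∑ i, ∑ j, c i * σ (c' j) * g' (col i) (col j) := by
    intro c c'
    simp only [g', f, co, Matrix.mulVec_sum, Matrix.mulVec_smul, Finset.sum_apply, Pi.smul_apply, smul_eq_mul,
      map_sum, map_mul, Finset.mul_sum, Finset.sum_mul]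
    rw [Finset.sum_comm]
    exact ((Finset.sum_congr rfl fun j _ => Finset.sum_comm).trans Finset.sum_comm).trans
      (Finset.sum_congr rfl fun i _ => Finset.sum_congr rfl fun j _ => Finset.sum_congr rfl fun k _ => by ring)
  have hscal : ∀ u w, g' u w = d * f u w := by
    intro u w
    rw [hdec u, hdec w, hsum, ← hdec u, ← hdec w]
    show _ = d * ∑ i, _
    rw [Finset.mul_sum]
    refine Finset.sum_congr rfl fun i _ => ?_
    rw [Finset.sum_eq_single i (fun j _ hj => by rw [hoff i j (Ne.symm hj), mul_zero]) (by simp),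
      hdiag _ i rfl]
    ring
  have hd0 : d ≠ 0 := by
    intro h0
    haveI := hp.nonempty
    obtain ⟨i⟩ := hp.nonempty
    have hne0 : (n : M) *ᵥ col i₀ ≠ 0 := by
      intro h1
      have h2 : col i₀ = 0 := by
        have := congrArg (((n⁻¹ : G) : M) *ᵥ ·) h1
        simpa [Matrix.mulVec_mulVec, ← Units.val_mul] using this
      have h3 := hcoP (Pi.single i₀ 1)
      rw [Matrix.mulVec_single_one] at h3
      exact one_ne_zero (α := F) (by
        have h4 := congrFun h3 i₀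
        rw [show ((P : M).col i₀) = col i₀ from rfl, h2, Pi.single_eq_same] at h4
        simpa [co] using h4.symm)
    obtain ⟨-, z, hz⟩ := hU.nondegenerate _ hne0
    refine hz ?_
    have hz' : (n : M) *ᵥ (((n⁻¹ : G) : M) *ᵥ z) = z := by
      rw [Matrix.mulVec_mulVec, Units.mul_inv, Matrix.one_mulVec]
    rw [← hz']
    show g' _ _ = 0
    rw [hscal, h0, zero_mul]
  exact ⟨Units.mk0 d hd0, fun u w => hscal u w⟩

end Data

namespace Data

variable {r : ℕ} {R : Subgroup (GL ι F)}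

theorem exists_root (h : Data r R) : ∃ ω : F, IsPrimitiveRoot ω r ∧ ∃ z ∈ R, (z : M) = ω • 1 := by
  obtain ⟨ω, x, y, hx, hy, hp⟩ := h.exists_pair
  exact ⟨ω, hp.root, h.exists_zeta hx hy hp⟩

/-- Class 6, or realisable over a proper subfield, or a unitary form preserved by the normaliser. -/
theorem classify [Fintype F] (h : Data r R) (hodd : Odd r) (H : Subgroup (GL ι F))
    (hn : ∀ k ∈ H, ∀ g ∈ R, k * g * k⁻¹ ∈ R)
    (hab : ∀ A : Subgroup (GL ι F), A ≤ R → (∀ k ∈ H, ∀ a ∈ A, k * a * k⁻¹ ∈ A) →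
      (∀ a ∈ A, ∀ b ∈ A, a * b = b * a) → A ≤ scalars ι F) :
    (∃ F₀ : Subfield F, F₀ ≠ ⊤ ∧ RealisableOver F₀ (matrixSet R)) ∨
      IsLinearSymplecticTypeData r R ∨
      (∃ (σ : F ≃+* F) (f : (ι → F) → (ι → F) → F), IsUnitaryForm σ f ∧ FixesForm (matrixSet R) f ∧
        subgroupNormalizer R ≤ similarityGroup f) := by
  have hexp : ∀ g ∈ R, g ^ r = 1 := fun g hg => h.pow_eq_one hodd H hn hab hg
  obtain ⟨ω, hω, -⟩ := h.exists_root
  obtain ⟨p, hchar⟩ := CharP.exists F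
  obtain ⟨e, hp, hcard⟩ := FiniteField.card F p
  haveI := Fact.mk hp
  haveI := Fact.mk h.prime
  haveI : NeZero r := ⟨h.prime.ne_zero⟩
  by_cases hsub : ∃ F₀ : Subfield F, F₀ ≠ ⊤ ∧ ω ∈ F₀
  · obtain ⟨F₀, hne, hmem⟩ := hsub
    exact Or.inl ⟨F₀, hne, h.realisableOver hexp hω F₀ hmem⟩
  push Not at hsub
  have hmin : ∀ d : ℕ, 0 < d → d < (e : ℕ) → ω ^ (p ^ d) ≠ ω := by
    intro d hd hde hfix
    let F₀ : Subfield F := (iterateFrobenius F p d).eqLocusField (RingHom.id F)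
    refine hsub F₀ ?_ (by show iterateFrobenius F p d ω = ω; rw [iterateFrobenius_def, hfix])
    intro htop
    have hall : ∀ a : F, a ^ (p ^ d) = a := fun a => by
      have : a ∈ F₀ := htop ▸ Subfield.mem_top a
      rw [← iterateFrobenius_def]
      exact this
    obtain ⟨g, hg⟩ := IsCyclic.exists_ofOrder_eq_natCard (α := Fˣ)
    rw [Nat.card_units, Nat.card_eq_fintype_card, hcard] at hg
    have hg1 : g ^ (p ^ d - 1) = 1 := by
      have h1 : g ^ (p ^ d) = g := Units.ext (by rw [Units.val_pow_eq_pow_val, hall])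
      refine mul_right_cancel (b := g) ?_
      rw [← pow_succ, Nat.sub_add_cancel (Nat.one_le_pow _ _ hp.pos), h1, one_mul]
    have h2 := Nat.le_of_dvd (Nat.sub_pos_of_lt (Nat.one_lt_pow hd.ne' hp.one_lt)) (orderOf_dvd_of_pow_eq_one hg1)
    rw [hg] at h2
    have h3 := Nat.pow_lt_pow_right hp.one_lt hde
    have h4 := Nat.one_le_pow d p hp.pos
    omega
  have hωd : ∀ d : ℕ, r ∣ p ^ d - 1 → ω ^ (p ^ d) = ω := by
    intro d hd
    have := (hω.pow_eq_one_iff_dvd _).2 hd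
    conv_lhs => rw [← Nat.sub_add_cancel (Nat.one_le_pow d p hp.pos), pow_succ, this, one_mul]
  have hω0 : ω ≠ 0 := hω.ne_zero h.prime.ne_zero
  have hfrob : ω ^ (p ^ (e : ℕ)) = ω := by rw [← hcard]; exact FiniteField.pow_card ω
  have hrp : r ≠ p := by
    rintro rfl
    exact hω.neZero'.out (CharP.cast_eq_zero F r)
  have hdiv : r ∣ p ^ (e : ℕ) - 1 := by
    refine (hω.pow_eq_one_iff_dvd _).1 (mul_right_cancel₀ hω0 ?_)
    rw [← pow_succ, Nat.sub_add_cancel (Nat.one_le_pow _ _ hp.pos), hfrob, one_mul]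
  rcases Nat.even_or_odd (e : ℕ) with ⟨m, hm⟩ | he
  swap
  · refine Or.inr (Or.inl ⟨h.symplecticType hodd H hn hab, h.absIrred, p, e, hrp, ?_, Or.inl ⟨hodd, he, h.card_center,
      1, le_rfl, by rw [h.card_eq]⟩⟩)
    rw [h.card_center]
    exact ⟨hp, hchar, hcard, hdiv, fun d hd hde hdd => hmin d hd hde (hωd d hdd)⟩
  have hm0 : 0 < m := by have := e.pos; omega
  let σ : F ≃+* F := iterateFrobeniusEquiv F p m
  have hσ : ∀ a, σ a = a ^ (p ^ m) := fun a => iterateFrobeniusEquiv_def ..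
  have hσσ : ∀ a, σ (σ a) = a := fun a => by
    rw [hσ, hσ, ← pow_mul, ← pow_add, ← hm, ← hcard, FiniteField.pow_card]
  have hσω : σ ω = ω⁻¹ := by
    obtain ⟨k, hk, hkω⟩ := hω.eq_pow_of_pow_eq_one (show (σ ω) ^ r = 1 by rw [← map_pow, hω.pow_eq_one, map_one])
    have h2 : ω ^ (k * k) = ω := by rw [pow_mul, hkω, ← map_pow, hkω, hσσ]
    have h3 : r ∣ (k + 1) * (k - 1) := by
      rcases Nat.eq_zero_or_pos k with rfl | hk0
      · simp at h2; exact absurd h2.symm (hω.ne_one h.prime.one_lt)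
      refine (hω.pow_eq_one_iff_dvd _).1 (mul_right_cancel₀ hω0 ?_)
      rw [one_mul, ← pow_succ]
      conv_rhs => rw [← h2]
      congr 1
      obtain ⟨j, rfl⟩ := Nat.exists_eq_add_of_le' hk0
      simp only [Nat.add_sub_cancel]
      ring
    rcases h.prime.dvd_mul.1 h3 with h4 | h4
    · rw [← hkω]; refine eq_inv_of_mul_eq_one_left ?_; rw [← pow_succ]
      exact (hω.pow_eq_one_iff_dvd _).2 h4
    · exfalso
      rcases Nat.eq_zero_or_pos (k - 1) with h5 | h5
      · rcases Nat.eq_zero_or_pos k with rfl | hk0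
        · simp at h2; exact hω.ne_one h.prime.one_lt h2.symm
        refine hmin m hm0 (by omega) ?_
        rw [← hσ, ← hkω, show k = 1 by omega, pow_one]
      · have := Nat.le_of_dvd h5 h4
        omega
  have hne : σ ≠ RingEquiv.refl F := by
    intro h1
    refine hmin m hm0 (by omega) ?_
    rw [← hσ, h1]
    rfl
  obtain ⟨f, h1, h2, h3⟩ := h.exists_unitary hexp hω σ hσσ hne hσω
  exact Or.inr (Or.inr ⟨σ, f, h1, h2, h3⟩)

end Data

namespace Data

variable {r : ℕ} {R : Subgroup (GL ι F)}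

/-- Subgroups of the special linear group satisfy the condition on scalars. -/
theorem of_specialLinear (hcard : Fintype.card ι = r) (hr : r.Prime) (hSL : R ≤ specialLinear ι F)
    (hcomm : ∀ a ∈ R, ∀ b ∈ R, a * b * a⁻¹ * b⁻¹ ∈ scalars ι F)
    (hna : ∃ a ∈ R, ∃ b ∈ R, a * b ≠ b * a) : Data r R := by
  refine ⟨hcard, hr, fun z hz hzs => ?_, hcomm, hna⟩
  obtain ⟨c, hc⟩ := val_mem_scalars_iff.1 hzs
  have hdet : (z : M).det = 1 := by
    have := congrArg Units.val (MonoidHom.mem_ker.1 (hSL hz))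
    simpa using this
  refine Units.ext ?_
  rw [hc, Matrix.det_smul, Matrix.det_one, mul_one, hcard] at hdet
  rw [Units.val_pow_eq_pow_val, hc, _root_.smul_pow, one_pow, hdet, one_smul, Units.val_one]

/-- Minimality gives the condition on abelian subgroups. -/
theorem abelian_le_scalars (h : Data r R) (H : Subgroup (GL ι F)) (hn : ∀ k ∈ H, ∀ g ∈ R, k * g * k⁻¹ ∈ R)
    (hmin : ∀ B : Subgroup (GL ι F), R ⊓ scalars ι F ≤ B → B ≤ R → (∀ k ∈ H, ∀ b ∈ B, k * b * k⁻¹ ∈ B) →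
      B = R ⊓ scalars ι F ∨ B = R)
    (A : Subgroup (GL ι F)) (hAR : A ≤ R) (hA : ∀ k ∈ H, ∀ a ∈ A, k * a * k⁻¹ ∈ A)
    (hAc : ∀ a ∈ A, ∀ b ∈ A, a * b = b * a) : A ≤ scalars ι F := by
  let B : Subgroup (GL ι F) := A ⊔ (R ⊓ scalars ι F)
  have hBn : ∀ k ∈ H, ∀ b ∈ B, k * b * k⁻¹ ∈ B := by
    intro k hk b hb
    have : B ≤ B.comap (MulAut.conj k).toMonoidHom :=
      sup_le (fun a ha => Subgroup.mem_sup_left (hA k hk a ha))
        (fun a ha => Subgroup.mem_sup_right ⟨hn k hk a ha.1, (scalars_normal).conj_mem a ha.2 k⟩)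
    exact this hb
  have hcen : ∀ a ∈ R ⊓ scalars ι F, ∀ g : GL ι F, Commute a g := fun a ha g => by
    obtain ⟨c, hc⟩ := val_mem_scalars_iff.1 ha.2
    exact commute_of_scal hc
  rcases hmin B le_sup_right (sup_le hAR inf_le_left) hBn with h1 | h1
  · exact (le_sup_left : A ≤ B).trans (h1.le.trans inf_le_right)
  exfalso
  obtain ⟨a, ha, b, hb, hne⟩ := h.nonabelian
  refine hne ?_
  have hBe : B = Subgroup.closure ((A : Set (GL ι F)) ∪ (R ⊓ scalars ι F : Subgroup (GL ι F))) := Subgroup.sup_eq_closure _ _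
  rw [← h1, hBe] at ha hb
  refine Commute.eq (Subgroup.closure_induction₂ (p := fun u w _ _ => Commute u w) ?_
    (fun _ _ => Commute.one_left _) (fun _ _ => Commute.one_right _)
    (fun _ _ _ _ _ _ h1 h2 => h1.mul_left h2) (fun _ _ _ _ _ _ h1 h2 => h1.mul_right h2)
    (fun _ _ _ _ h1 => h1.inv_left) (fun _ _ _ _ h1 => h1.inv_right) ha hb)
  rintro u w (hu | hu) (hw | hw)
  · exact hAc u hu w hw
  · exact (hcen w hw u).symm
  · exact hcen u hu w
  · exact hcen u hu w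

end Data

end Cfsg.Agent.Lib.PrimeDim.SympType
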