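import Cfsg.Agent.Lib.MaxSub.Orth

/-!
`Ω` of a non-degenerate quadratic form in dimension at least seven over a finite field of odd order:
it fixes no proper subspace, no decomposition into lines and no subfield structure, and the reducible
maximal subgroups are stabilisers of totally singular or of even-dimensional non-degenerate subspaces.
-/

set_option autoImplicit false
set_option linter.unusedSectionVars false

namespace Cfsg.Agent.Lib.PrimeDim.OrthProper

open Matrix QuadraticMap Cfsg.Agent.Lib.MaxSub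
open Cfsg.Agent.Lib.Geometry (quad_add quad_sub quad_smul quad_polar_self quad_polar_comm)
open scoped MatrixGroups Matrix

attribute [-simp] QuadraticMap.polarBilin_apply_apply

variable {ι : Type} [Fintype ι] [DecidableEq ι] {F : Type*} [Field F]

/-- An element mapping a subspace into itself stabilises it. -/
theorem mem_stabilizer_of_maps [Finite F] {W : Submodule F (ι → F)} {g : GL ι F}
    (h : ∀ w ∈ W, (g : Matrix ι ι F) *ᵥ w ∈ W) : g ∈ Cfsg.Geo.subspaceStabilizer W := by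
  have hinj : Function.Injective fun w : W => (⟨(g : Matrix ι ι F) *ᵥ w.1, h w.1 w.2⟩ : W) := by
    intro x y hxy
    have := congrArg (fun z : W => ((g⁻¹ : GL ι F) : Matrix ι ι F) *ᵥ z.1) hxy
    simpa [Matrix.mulVec_mulVec, ← Units.val_mul] using this
  refine fun v => ⟨fun hv => h v hv, fun hv => ?_⟩
  obtain ⟨⟨w, hw⟩, hwe⟩ := (Finite.injective_iff_surjective.mp hinj) ⟨_, hv⟩
  have h2 := congrArg (fun z : W => ((g⁻¹ : GL ι F) : Matrix ι ι F) *ᵥ z.1) hwe
  simp [Matrix.mulVec_mulVec, ← Units.val_mul] at h2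
  exact h2 ▸ hw

theorem maps_of_mem_stabilizer {W : Submodule F (ι → F)} {g : GL ι F}
    (h : g ∈ Cfsg.Geo.subspaceStabilizer W) {w : ι → F} (hw : w ∈ W) :
    (g : Matrix ι ι F) *ᵥ w ∈ W := (h w).mp hw

/-- A maximal subgroup below a structure stabiliser is that stabiliser. -/
theorem eq_inf_of_le {G : Type*} [Group G] {Om H S : Subgroup G} (hH : Cfsg.Geo.IsMaximalIn Om H)
    (hle : H ≤ S) (hS : ¬ Om ≤ S) : H = S ⊓ Om := by
  rcases hH.2 (S ⊓ Om) (le_inf hle hH.1.le) inf_le_right with h | h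
  · exact h.symm
  · exact absurd (h.ge.trans inf_le_left) hS

variable {Q : QuadraticForm F (ι → F)}

theorem det_omega {g : GL ι F} (hg : g ∈ Cfsg.Geo.omegaGL ⇑Q) : (g : Matrix ι ι F).det = 1 := by
  obtain ⟨x, hx, rfl⟩ := hg
  have : x ∈ ((Matrix.GeneralLinearGroup.det : GL ι F →* Fˣ).comp (Cfsg.isometryGroup F ⇑Q).subtype).ker :=
    Abelianization.commutator_subset_ker _ hx
  exact congrArg Units.val this

variable (hN : (polarBilin Q).Nondegenerate)

include hN in
theorem exists_nonsing_perp (hn : 7 ≤ Fintype.card ι) (u : ι → F) :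
    ∃ x, polarBilin Q u x = 0 ∧ Q x ≠ 0 := by
  by_contra hc
  push Not at hc
  have h3 := Orth.finrank_sing_le hN (U := LinearMap.ker (polarBilin Q u)) fun z hz =>
    hc z (LinearMap.mem_ker.mp hz)
  have h1 := (polarBilin Q u).finrank_range_add_finrank_ker
  have h2 : Module.finrank F (LinearMap.range (polarBilin Q u)) ≤ 1 :=
    (Submodule.finrank_le _).trans (by simp)
  rw [Module.finrank_fintype_fun_eq_card] at h1
  omega

include hN in
theorem exists_sing_nonorth [Finite F] (hn : 7 ≤ Fintype.card ι) {w : ι → F} (hw : w ≠ 0) :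
    ∃ u, Q u = 0 ∧ polarBilin Q w u ≠ 0 := by
  obtain ⟨e, f, e₂, f₂, e₃, f₃, h⟩ := Orth.exists_hypThree hN hn
  have h12 := h.1
  by_contra hc
  push Not at hc
  obtain ⟨z, hz⟩ : ∃ z, polarBilin Q w z ≠ 0 := by
    by_contra hh
    push Not at hh
    exact hw (hN.1 w hh)
  have hfe : polarBilin Q f e = 1 := by rw [quad_polar_comm, h12.ef]
  have hee := Orth.polar_self_of_sing Q h12.qe
  have hff := Orth.polar_self_of_sing Q h12.qf
  set z' := z - polarBilin Q f z • e - polarBilin Q e z • f with hz'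
  have h1 : polarBilin Q e z' = 0 := by
    rw [hz', map_sub, map_sub, map_smul, map_smul, hee, h12.ef]; simp
  have h2 : polarBilin Q f z' = 0 := by
    rw [hz', map_sub, map_sub, map_smul, map_smul, hff, hfe]; simp
  have hwz : polarBilin Q w z' = polarBilin Q w z := by
    rw [hz', map_sub, map_sub, map_smul, map_smul, hc e h12.qe, hc f h12.qf]; simp
  clear_value z'
  have hQ : Q (z' + (e - Q z' • f)) = 0 := by
    rw [quad_add, quad_sub, quad_smul, h12.qe, h12.qf, map_sub, map_smul, map_smul, h12.ef,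
      quad_polar_comm Q z' e, h1, quad_polar_comm Q z' f, h2, smul_eq_mul, smul_eq_mul]
    ring
  have := hc _ hQ
  rw [map_add, map_sub, map_smul, hc e h12.qe, hc f h12.qf, hwz] at this
  exact hz (by simpa using this)

include hN in
/-- The only subspaces fixed by `Ω` are trivial. -/
theorem invariant_eq [Finite F] (h2 : (2 : F) ≠ 0) (hn : 7 ≤ Fintype.card ι) {W : Submodule F (ι → F)}
    (h : ∀ g ∈ Cfsg.Geo.omegaGL ⇑Q, ∀ w ∈ W, (g : Matrix ι ι F) *ᵥ w ∈ W) : W = ⊥ ∨ W = ⊤ := by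
  rcases eq_or_ne W ⊥ with hW | hW
  · exact Or.inl hW
  right
  obtain ⟨w, hw, hw0⟩ := (Submodule.ne_bot_iff W).mp hW
  obtain ⟨u, hu, hwu⟩ := exists_sing_nonorth hN hn hw0
  have hmove : ∀ x, polarBilin Q u x = 0 →
      polarBilin Q w u • x - (polarBilin Q w x + Q x * polarBilin Q w u) • u ∈ W := by
    intro x hx
    have := W.sub_mem (h _ (Orth.eichGL_mem_omega hN hn hu hx) w hw) hw
    rw [Orth.eichGL_mulVec] at this
    convert this using 1
    abel
  have huW : u ∈ W := by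
    obtain ⟨x, hx, hQx⟩ := exists_nonsing_perp hN hn u
    have := W.add_mem (hmove x hx) (hmove (-x) (by rw [map_neg, hx, neg_zero]))
    rw [map_neg, QuadraticMap.map_neg] at this
    have h' : (-(2 * (Q x * polarBilin Q w u))) • u ∈ W := by
      convert this using 1
      module
    exact (Submodule.smul_mem_iff _ (neg_ne_zero.mpr (mul_ne_zero h2 (mul_ne_zero hQx hwu)))).mp h'
  have hperp : ∀ x, polarBilin Q u x = 0 → x ∈ W := fun x hx =>
    (Submodule.smul_mem_iff _ hwu).mp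
      ((Submodule.sub_mem_iff_left _ (W.smul_mem _ huW)).mp (hmove x hx))
  refine eq_top_iff.mpr fun y _ => ?_
  have := W.add_mem (hperp (y - (polarBilin Q u y / polarBilin Q u w) • w) (by
    rw [map_sub, map_smul, smul_eq_mul, div_mul_cancel₀ _ (by rwa [quad_polar_comm]), sub_self]))
    (W.smul_mem (polarBilin Q u y / polarBilin Q u w) hw)
  rwa [sub_add_cancel] at this

include hN in
theorem not_le_subspaceStabilizer [Finite F] (h2 : (2 : F) ≠ 0) (hn : 7 ≤ Fintype.card ι)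
    {W : Submodule F (ι → F)} (hb : W ≠ ⊥) (ht : W ≠ ⊤) :
    ¬ Cfsg.Geo.omegaGL ⇑Q ≤ Cfsg.Geo.subspaceStabilizer W := fun h =>
  (invariant_eq hN h2 hn fun g hg w hw => maps_of_mem_stabilizer (h hg) hw).elim hb ht

theorem three_pow_gt {n : ℕ} (hn : 7 ≤ n) : n < 3 ^ (n - 3) := by
  induction n, hn using Nat.le_induction with
  | base => norm_num
  | succ k hk ih =>
    rw [show k + 1 - 3 = k - 3 + 1 by omega, pow_succ]
    omega

include hN in
theorem not_le_decompositionStabilizer [Fintype F] (h2 : (2 : F) ≠ 0) (hn : 7 ≤ Fintype.card ι) {t : ℕ}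
    (ht : t = Fintype.card ι) (D : Fin t → Submodule F (ι → F)) (hD : ∀ i, Module.finrank F (D i) = 1) :
    ¬ Cfsg.Geo.omegaGL ⇑Q ≤ Cfsg.Geo.decompositionStabilizer D := by
  classical
  intro h
  have i₀ : Fin t := ⟨0, by omega⟩
  obtain ⟨d, hd, hd0⟩ := (Submodule.ne_bot_iff (D i₀)).mp fun hb => by
    have := hD i₀
    rw [hb, finrank_bot] at this
    omega
  obtain ⟨u, hu, hdu⟩ := exists_sing_nonorth hN hn hd0
  let φ := (polarBilin Q u).prod (polarBilin Q d)
  have hC : ∀ c : LinearMap.ker φ, polarBilin Q u c.1 = 0 ∧ polarBilin Q d c.1 = 0 := fun c => by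
    have := c.2
    simpa [φ, LinearMap.mem_ker, Prod.ext_iff] using this
  let f : LinearMap.ker φ → (Σ i : Fin t, D i) := fun c =>
    ⟨Classical.choose (h (Orth.eichGL_mem_omega hN hn hu (hC c).1)) i₀,
      (Orth.eichGL Q u c.1 hu (hC c).1 : Matrix ι ι F) *ᵥ d, by
        rw [← Classical.choose_spec (h (Orth.eichGL_mem_omega hN hn hu (hC c).1)) i₀]
        exact ⟨d, hd, Matrix.toLin'_apply _ _⟩⟩
  have hf : ∀ c, (f c).2.1 = d + polarBilin Q d u • c.1 - (Q c.1 * polarBilin Q d u) • u := fun c => by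
    show (Orth.eichGL Q u c.1 hu (hC c).1 : Matrix ι ι F) *ᵥ d = _
    rw [Orth.eichGL_mulVec, (hC c).2, zero_add]
  have hinj : Function.Injective f := fun a b hab => by
    have h1 : (f a).2.1 = (f b).2.1 := by rw [hab]
    rw [hf, hf] at h1
    have h3 := congrArg (polarBilin Q d) h1
    rw [map_sub, map_sub, map_add, map_add, map_smul, map_smul, map_smul, map_smul, (hC a).2, (hC b).2,
      smul_eq_mul, smul_eq_mul] at h3
    simp only [smul_eq_mul, mul_zero, add_zero, sub_right_inj, mul_eq_mul_right_iff, hdu, or_false] at h3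
    refine Subtype.ext (smul_right_injective _ hdu ?_)
    rw [h3] at h1
    simpa using h1
  have hq : 3 ≤ Fintype.card F := by
    have := Fintype.one_lt_card (α := F)
    by_contra hc
    have hc2 : Fintype.card F = 2 := by omega
    exact h2 (by
      have := FiniteField.cast_card_eq_zero F
      rwa [hc2] at this)
  have h1 := φ.finrank_range_add_finrank_ker
  have h3 : Module.finrank F (LinearMap.range φ) ≤ 2 := (Submodule.finrank_le _).trans (by simp)
  rw [Module.finrank_fintype_fun_eq_card] at h1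
  have h4 := Fintype.card_le_of_injective f hinj
  rw [Module.card_eq_pow_finrank (K := F), Fintype.card_sigma,
    Finset.sum_congr rfl (fun i _ => by rw [Module.card_eq_pow_finrank (K := F), hD i, pow_one]),
    Finset.sum_const, Finset.card_univ, Fintype.card_fin, smul_eq_mul] at h4
  have h5 : Fintype.card F ^ (Fintype.card ι - 2) ≤ Fintype.card F ^ Module.finrank F (LinearMap.ker φ) :=
    Nat.pow_le_pow_right (by omega) (by omega)
  have h6 : Fintype.card F ^ (Fintype.card ι - 2) =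
      Fintype.card F ^ (Fintype.card ι - 3) * Fintype.card F := by
    rw [← pow_succ]; congr 1; omega
  have h7 : t < Fintype.card F ^ (Fintype.card ι - 3) :=
    lt_of_lt_of_le (by rw [ht]; exact three_pow_gt hn) (Nat.pow_le_pow_left hq _)
  have h8 : t * Fintype.card F < Fintype.card F ^ (Fintype.card ι - 2) :=
    h6 ▸ Nat.mul_lt_mul_of_pos_right h7 (by omega)
  omega

/-- Membership in a subfield group. -/
theorem exists_of_mem_subfieldSubgroup {F₀ : Subfield F} {P g : GL ι F}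
    (h : g ∈ Cfsg.Geo.subfieldSubgroup F₀ P) : ∃ (c : Fˣ) (a : GL ι F₀),
      ((P⁻¹ * g * P : GL ι F) : Matrix ι ι F) = (c : F) • (a : Matrix ι ι F₀).map F₀.subtype := by
  obtain ⟨y, hy, rfl⟩ := h
  obtain ⟨_, ⟨a, rfl⟩, s, hs, rfl⟩ := Subgroup.mem_sup_of_normal_right.mp hy
  obtain ⟨c, hc⟩ := (Cfsg.Geo.mem_scalars_iff s).mp hs
  refine ⟨c, a, ?_⟩
  simp only [MulEquiv.coe_toMonoidHom, MulAut.conj_apply]
  rw [show P⁻¹ * (P * (Matrix.GeneralLinearGroup.map (F₀.subtype : F₀ →+* F) a * s) * P⁻¹) * P =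
    Matrix.GeneralLinearGroup.map (F₀.subtype : F₀ →+* F) a * s by group, Units.val_mul, hc,
    Matrix.mul_smul, Matrix.mul_one]
  rfl

theorem eichGL_pow {u x : ι → F} (hu : Q u = 0) (hx : polarBilin Q u x = 0) (k : ℕ) :
    Orth.eichGL Q u x hu hx ^ k =
      Orth.eichGL Q u ((k : F) • x) hu (by rw [map_smul, hx, smul_zero]) := by
  induction k with
  | zero =>
    refine Units.ext (Matrix.ext_of_mulVec_single fun j => ?_)
    rw [pow_zero, Units.val_one, Matrix.one_mulVec, Orth.eichGL_mulVec]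
    simp
  | succ k ih =>
    rw [pow_succ, ih, Orth.eichGL, Orth.eichGL, ← map_mul, Cfsg.Agent.Lib.Classical.eich_mul]
    refine Units.ext (Matrix.ext_of_mulVec_single fun j => ?_)
    rw [Orth.toGL_mulVec, Orth.eichGL_mulVec, Cfsg.Agent.Lib.Classical.eich_apply,
      show ((k + 1 : ℕ) : F) • x = (k : F) • x + x by rw [Nat.cast_succ, add_smul, one_smul]]

include hN in
theorem not_le_subfieldSubgroup [Fintype F] (h2 : (2 : F) ≠ 0) (hn : 7 ≤ Fintype.card ι)
    {F₀ : Subfield F} (hF₀ : F₀ ≠ ⊤) (P : GL ι F) :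
    ¬ Cfsg.Geo.omegaGL ⇑Q ≤ Cfsg.Geo.subfieldSubgroup F₀ P := by
  intro h
  have hent : ∀ u x (hu : Q u = 0) (hx : polarBilin Q u x = 0) (i j : ι),
      ((P⁻¹ * Orth.eichGL Q u x hu hx * P : GL ι F) : Matrix ι ι F) i j ∈ F₀ := by
    intro u x hu hx
    obtain ⟨c, a, hca⟩ := exists_of_mem_subfieldSubgroup (h (Orth.eichGL_mem_omega hN hn hu hx))
    set g := Orth.eichGL Q u x hu hx with hg
    have hgq : g ^ Fintype.card F = 1 := by
      refine Units.ext (Matrix.ext_of_mulVec_single fun j => ?_)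
      rw [hg, eichGL_pow, Orth.eichGL_mulVec, Units.val_one, Matrix.one_mulVec, FiniteField.cast_card_eq_zero]
      simp
    have hconj : (P⁻¹ * g * P) ^ Fintype.card F = 1 := by
      rw [show P⁻¹ * g * P = MulAut.conj P⁻¹ g by simp, ← map_pow, hgq, map_one]
    have h1 := congrArg Units.val hconj
    rw [Units.val_pow_eq_pow_val, hca, smul_pow, FiniteField.pow_card, ← RingHom.mapMatrix_apply,
      ← map_pow, RingHom.mapMatrix_apply, Units.val_one] at h1
    have : Nonempty ι := Fintype.card_pos_iff.mp (by omega)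
    let k : ι := Classical.arbitrary ι
    have h3 := congrFun (congrFun h1 k) k
    rw [Matrix.smul_apply, Matrix.map_apply, Matrix.one_apply_eq, smul_eq_mul] at h3
    have hc : (c : F) ∈ F₀ := by
      rw [eq_inv_of_mul_eq_one_left h3]
      exact F₀.inv_mem (SetLike.coe_mem _)
    intro i j
    rw [hca, Matrix.smul_apply, Matrix.map_apply]
    exact F₀.mul_mem hc (SetLike.coe_mem _)
  obtain ⟨e, f, e₂, f₂, e₃, f₃, hh⟩ := Orth.exists_hypThree hN hn
  have hqe := hh.1.qe
  obtain ⟨x, hx, hQx⟩ := exists_nonsing_perp hN hn e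
  let A : (ι → F) →ₗ[F] (ι → F) :=
    ((polarBilin Q).flip e).smulRight x - ((polarBilin Q).flip x).smulRight e
  have hA : ∀ y, A y = polarBilin Q y e • x - polarBilin Q y x • e := fun y => rfl
  obtain ⟨j, hj⟩ : ∃ j, A ((P : Matrix ι ι F) *ᵥ Pi.single j 1) ≠ 0 := by
    by_contra hc
    push Not at hc
    have h0 : A.comp (Matrix.toLin' (P : Matrix ι ι F)) = 0 :=
      LinearMap.pi_ext' fun j => LinearMap.ext_ring (by simpa using hc j)
    have h1 := LinearMap.congr_fun h0 (((P⁻¹ : GL ι F) : Matrix ι ι F) *ᵥ f)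
    rw [LinearMap.comp_apply, Matrix.toLin'_apply, Matrix.mulVec_mulVec, ← Units.val_mul, mul_inv_cancel,
      Units.val_one, Matrix.one_mulVec, hA, quad_polar_comm Q f e, hh.1.ef, one_smul,
      LinearMap.zero_apply, sub_eq_zero] at h1
    rw [h1, quad_smul, hqe, mul_zero] at hQx
    exact hQx rfl
  obtain ⟨i, hi⟩ := Function.ne_iff.mp (show ((P⁻¹ : GL ι F) : Matrix ι ι F) *ᵥ
      A ((P : Matrix ι ι F) *ᵥ Pi.single j 1) ≠ 0 from fun h0 => hj (by
    have := congrArg ((P : Matrix ι ι F) *ᵥ ·) h0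
    simpa [Matrix.mulVec_mulVec, ← Units.val_mul] using this))
  rw [Pi.zero_apply] at hi
  have key : ∀ t : F, 2 * t * (((P⁻¹ : GL ι F) : Matrix ι ι F) *ᵥ
      A ((P : Matrix ι ι F) *ᵥ Pi.single j 1)) i ∈ F₀ := by
    intro t
    have h1 := hent e (t • x) hqe (by rw [map_smul, hx, smul_zero]) i j
    have h3 := hent e ((-t) • x) hqe (by rw [map_smul, hx, smul_zero]) i j
    have hcol : ∀ g : GL ι F, ((P⁻¹ * g * P : GL ι F) : Matrix ι ι F) i j =
        (((P⁻¹ : GL ι F) : Matrix ι ι F) *ᵥ ((g : Matrix ι ι F) *ᵥ ((P : Matrix ι ι F) *ᵥ Pi.single j 1))) i := by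
      intro g
      rw [Matrix.mulVec_mulVec, Matrix.mulVec_mulVec, Matrix.mulVec_single_one, Units.val_mul, Units.val_mul]
      rfl
    rw [hcol] at h1 h3
    have h4 := F₀.sub_mem h1 h3
    rw [← Pi.sub_apply, ← Matrix.mulVec_sub] at h4
    convert h4 using 1
    rw [← smul_eq_mul, ← Pi.smul_apply, ← Matrix.mulVec_smul]
    congr 2
    rw [Orth.eichGL_mulVec, Orth.eichGL_mulVec, hA]
    simp only [map_smul, quad_smul, smul_eq_mul]
    module
  refine hF₀ (eq_top_iff.mpr fun y _ => ?_)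
  have := key (y * (2 * (((P⁻¹ : GL ι F) : Matrix ι ι F) *ᵥ
      A ((P : Matrix ι ι F) *ᵥ Pi.single j 1)) i)⁻¹)
  convert this using 1
  field_simp

theorem scalar_eq_one (hodd : Odd (Fintype.card ι)) (hN : (polarBilin Q).Nondegenerate) {g : GL ι F}
    (hg : g ∈ Cfsg.Geo.omegaGL ⇑Q) (hs : g ∈ Cfsg.Geo.scalars ι F) : g = 1 := by
  obtain ⟨c, hc⟩ := (Cfsg.Geo.mem_scalars_iff g).mp hs
  have hdet := det_omega hg
  rw [hc, Matrix.det_smul, Matrix.det_one, mul_one] at hdet
  obtain ⟨x, hx⟩ : ∃ x, Q x ≠ 0 := by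
    by_contra hh
    push Not at hh
    have := Orth.finrank_sing_le hN (U := ⊤) fun z _ => hh z
    rw [finrank_top, Module.finrank_fintype_fun_eq_card] at this
    obtain ⟨k, hk⟩ := hodd
    omega
  have h1 := Orth.iso_quad (Orth.omegaGL_le_isometry hg) x
  rw [hc, Matrix.smul_mulVec, Matrix.one_mulVec, quad_smul] at h1
  have hc2 : (c : F) ^ 2 = 1 := by
    rw [pow_two]; exact (mul_eq_right₀ hx).mp h1
  obtain ⟨k, hk⟩ := hodd
  rw [hk, pow_succ, pow_mul, hc2, one_pow, one_mul] at hdet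
  exact Units.ext (by rw [hc, hdet, one_smul, Units.val_one])

include hN in
theorem reducible_case [Fintype F] (h2 : (2 : F) ≠ 0) (hn : 7 ≤ Fintype.card ι) (hodd : Odd (Fintype.card ι))
    {H : Subgroup (GL ι F)} (hH : Cfsg.Geo.IsMaximalIn (Cfsg.Geo.omegaGL ⇑Q) H)
    {W : Submodule F (ι → F)} (hb : W ≠ ⊥) (ht : W ≠ ⊤)
    (hW : ∀ g ∈ H, ∀ w ∈ W, (g : Matrix ι ι F) *ᵥ w ∈ W) :
    (∃ W : Submodule F (ι → F), W ≠ ⊥ ∧ Cfsg.Geo.IsTotallySingularQuad (⇑Q) W ∧
      H = Cfsg.Geo.subspaceStabilizer W ⊓ Cfsg.Geo.omegaGL ⇑Q) ∨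
    (∃ W : Submodule F (ι → F), W ≠ ⊥ ∧ Even (Module.finrank F W) ∧
      Cfsg.Geo.IsNondegenerateOn (QuadraticMap.polar ⇑Q) W ∧
      ¬ (Fintype.card F = 3 ∧ Module.finrank F W = 2 ∧ Cfsg.Geo.IsPlusTypeOn (⇑Q) W) ∧
      H = Cfsg.Geo.subspaceStabilizer W ⊓ Cfsg.Geo.omegaGL ⇑Q) := by
  classical
  have hiso : ∀ g ∈ H, g ∈ Cfsg.isometryGroup F ⇑Q := fun g hg =>
    Orth.omegaGL_le_isometry (hH.1.le hg)
  have hperp : ∀ (U : Submodule F (ι → F)), (∀ g ∈ H, ∀ w ∈ U, (g : Matrix ι ι F) *ᵥ w ∈ U) →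
      ∀ g ∈ H, ∀ z ∈ LinearMap.BilinForm.orthogonal (polarBilin Q) U,
        (g : Matrix ι ι F) *ᵥ z ∈ LinearMap.BilinForm.orthogonal (polarBilin Q) U := by
    intro U hU g hg z hz y hy
    obtain ⟨y', hy', rfl⟩ : ∃ y' ∈ U, (g : Matrix ι ι F) *ᵥ y' = y :=
      ⟨((g⁻¹ : GL ι F) : Matrix ι ι F) *ᵥ y, hU _ (H.inv_mem hg) y hy, by
        rw [Matrix.mulVec_mulVec, ← Units.val_mul, mul_inv_cancel, Units.val_one, Matrix.one_mulVec]⟩
    show polarBilin Q _ _ = 0
    rw [Orth.iso_polar (hiso g hg)]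
    exact hz y' hy'
  have hstab : ∀ U : Submodule F (ι → F), U ≠ ⊥ → U ≠ ⊤ →
      (∀ g ∈ H, ∀ w ∈ U, (g : Matrix ι ι F) *ᵥ w ∈ U) →
      H = Cfsg.Geo.subspaceStabilizer U ⊓ Cfsg.Geo.omegaGL ⇑Q := fun U h0 h1 hU =>
    eq_inf_of_le hH (fun g hg => mem_stabilizer_of_maps (hU g hg)) (not_le_subspaceStabilizer hN h2 hn h0 h1)
  set Wp := LinearMap.BilinForm.orthogonal (polarBilin Q) W with hWp
  by_cases hrad : W ⊓ Wp = ⊥
  swap
  · left
    refine ⟨W ⊓ Wp, hrad, fun z hz => ?_, hstab _ hrad (fun he => ht (eq_top_iff.mpr (he ▸ inf_le_left)))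
      fun g hg w hw => ⟨hW g hg w hw.1, hperp W hW g hg w hw.2⟩⟩
    have h1 : polarBilin Q z z = 0 := hz.2 z hz.1
    rw [quad_polar_self] at h1
    exact (mul_eq_zero.mp h1).resolve_left h2
  right
  have hsym : ∀ a b, polarBilin Q a b = 0 → polarBilin Q b a = 0 := Orth.polar_symm Q
  have hdimp : Module.finrank F Wp = Fintype.card ι - Module.finrank F W := by
    rw [hWp, LinearMap.BilinForm.finrank_orthogonal hN, Module.finrank_fintype_fun_eq_card]
  have hWlt : Module.finrank F W < Fintype.card ι := by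
    have := Submodule.finrank_lt ht
    rwa [Module.finrank_fintype_fun_eq_card] at this
  have hWp0 : Wp ≠ ⊥ := fun hc => by rw [hc, finrank_bot] at hdimp; omega
  have hW0 : 0 < Module.finrank F W := Submodule.one_le_finrank_iff.mpr hb
  have hWpt : Wp ≠ ⊤ := fun hc => by
    rw [hc, finrank_top, Module.finrank_fintype_fun_eq_card] at hdimp
    omega
  have hnd : ∀ U : Submodule F (ι → F), U ⊓ LinearMap.BilinForm.orthogonal (polarBilin Q) U = ⊥ →
      Cfsg.Geo.IsNondegenerateOn (QuadraticMap.polar ⇑Q) U := by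
    intro U hU w hw hw0
    obtain ⟨x, hx, hxw⟩ : ∃ x ∈ U, polarBilin Q x w ≠ 0 := by
      by_contra hh
      push Not at hh
      exact hw0 ((Submodule.eq_bot_iff _).mp hU w ⟨hw, hh⟩)
    refine ⟨⟨x, hx, ?_⟩, ⟨x, hx, ?_⟩⟩
    · rwa [← polarBilin_apply_apply]
    · rw [QuadraticMap.polar_comm, ← polarBilin_apply_apply]; exact hxw
  obtain ⟨U, hU0, hUt, hUe, hUn, hUi⟩ : ∃ U : Submodule F (ι → F), U ≠ ⊥ ∧ U ≠ ⊤ ∧
      Even (Module.finrank F U) ∧ U ⊓ LinearMap.BilinForm.orthogonal (polarBilin Q) U = ⊥ ∧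
      ∀ g ∈ H, ∀ w ∈ U, (g : Matrix ι ι F) *ᵥ w ∈ U := by
    rcases Nat.even_or_odd (Module.finrank F W) with he | ho
    · exact ⟨W, hb, ht, he, hrad, hW⟩
    · refine ⟨Wp, hWp0, hWpt, ?_, ?_, hperp W hW⟩
      · rw [hdimp]; exact Nat.Odd.sub_odd hodd ho
      · rw [hWp, LinearMap.BilinForm.orthogonal_orthogonal (B := polarBilin Q) hN hsym, inf_comm]
        exact hrad
  by_cases hexc : Fintype.card F = 3 ∧ Module.finrank F U = 2 ∧ Cfsg.Geo.IsPlusTypeOn (⇑Q) U
  swap
  · exact ⟨U, hU0, hUe, hnd U hUn, hexc, hstab U hU0 hUt hUi⟩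
  obtain ⟨hq, hU2, S, hSU, hS, hS2⟩ := hexc
  -- the line of vectors of value one in a hyperbolic plane over three elements
  obtain ⟨e, heS, he0⟩ := (Submodule.ne_bot_iff S).mp fun hb => by rw [hb, finrank_bot] at hS2; omega
  have hQe : Q e = 0 := hS e heS
  obtain ⟨z, hz, hez⟩ : ∃ z ∈ U, polarBilin Q e z ≠ 0 := by
    by_contra hh
    push Not at hh
    exact he0 ((Submodule.eq_bot_iff _).mp hUn e ⟨hSU heS, fun y hy => hsym _ _ (hh y hy)⟩)
  obtain ⟨f, hf, hQf, hef⟩ := Orth.exists_partner hN hQe (hSU heS) hz hez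
  have hfe : polarBilin Q f e = 1 := by rw [quad_polar_comm, hef]
  have hspan : Submodule.span F {e, f} = U := by
    refine Submodule.eq_of_le_of_finrank_le (Submodule.span_le.mpr (Set.insert_subset (hSU heS) (by simpa using hf))) ?_
    have hli : LinearIndependent F ![e, f] := LinearIndependent.pair_iff.mpr fun s t hst => by
      have h1 := congrArg (polarBilin Q e) hst
      have h3 := congrArg (polarBilin Q f) hst
      rw [map_add, map_smul, map_smul, Orth.polar_self_of_sing Q hQe, hef, map_zero] at h1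
      rw [map_add, map_smul, map_smul, Orth.polar_self_of_sing Q hQf, hfe, map_zero] at h3
      simp only [smul_eq_mul, mul_zero, mul_one, zero_add, add_zero] at h1 h3
      exact ⟨h3, h1⟩
    have := finrank_span_eq_card hli
    rw [Matrix.range_cons_cons_empty, Fintype.card_fin] at this
    omega
  set v := e + f with hv
  have hQv : Q v = 1 := by rw [hv, quad_add, hQe, hQf, hef, zero_add, zero_add]
  have hfix : ∀ g ∈ H, (g : Matrix ι ι F) *ᵥ v ∈ Submodule.span F {v} := by
    intro g hg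
    have hgU : (g : Matrix ι ι F) *ᵥ v ∈ Submodule.span F {e, f} := by
      rw [hspan]; exact hUi g hg v (U.add_mem (hSU heS) hf)
    obtain ⟨a, b, hab⟩ := Submodule.mem_span_pair.mp hgU
    have h1 := Orth.iso_quad (hiso g hg) v
    rw [hQv, ← hab, quad_add, quad_smul, quad_smul, hQe, hQf, map_smul, map_smul, LinearMap.smul_apply, hef] at h1
    simp only [smul_eq_mul, mul_zero, zero_add, mul_one] at h1
    have ha : a ≠ 0 := fun h0 => by rw [h0] at h1; simp at h1
    have ha2 : a ^ 2 = 1 := by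
      have := FiniteField.pow_card_sub_one_eq_one a ha
      rwa [hq] at this
    have hb' : b = a := by linear_combination a * h1 - b * ha2
    exact Submodule.mem_span_singleton.mpr ⟨a, by rw [← hab, hb', hv, smul_add]⟩
  have hLi : ∀ g ∈ H, ∀ w ∈ Submodule.span F {v}, (g : Matrix ι ι F) *ᵥ w ∈ Submodule.span F {v} := by
    intro g hg w hw
    obtain ⟨c, rfl⟩ := Submodule.mem_span_singleton.mp hw
    rw [Matrix.mulVec_smul]
    exact Submodule.smul_mem _ _ (hfix g hg)
  have hv0 : v ≠ 0 := fun h0 => by rw [h0, QuadraticMap.map_zero] at hQv; exact one_ne_zero hQv.symm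
  set L := Submodule.span F {v} with hL
  set Lp := LinearMap.BilinForm.orthogonal (polarBilin Q) L with hLp
  have hLd : Module.finrank F Lp = Fintype.card ι - 1 := by
    rw [hLp, LinearMap.BilinForm.finrank_orthogonal hN, Module.finrank_fintype_fun_eq_card,
      hL, finrank_span_singleton hv0]
  have hLnd : L ⊓ Lp = ⊥ := by
    refine (Submodule.eq_bot_iff _).mpr fun w hw => ?_
    obtain ⟨c, rfl⟩ := Submodule.mem_span_singleton.mp hw.1
    have h1 : polarBilin Q v (c • v) = 0 := hw.2 v (Submodule.mem_span_singleton_self v)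
    rw [map_smul, quad_polar_self, hQv, mul_one, smul_eq_mul] at h1
    rw [(mul_eq_zero.mp h1).resolve_right h2, zero_smul]
  have hLp0 : Lp ≠ ⊥ := fun hc => by rw [hc, finrank_bot] at hLd; omega
  have hLpt : Lp ≠ ⊤ := fun hc => by rw [hc, finrank_top, Module.finrank_fintype_fun_eq_card] at hLd; omega
  refine ⟨Lp, hLp0, ?_, hnd Lp ?_, fun hc => ?_, hstab Lp hLp0 hLpt (hperp L hLi)⟩
  · rw [hLd]; exact Nat.Odd.sub_odd hodd odd_one
  · rw [hLp, LinearMap.BilinForm.orthogonal_orthogonal (B := polarBilin Q) hN hsym, inf_comm]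
    exact hLnd
  · omega

end Cfsg.Agent.Lib.PrimeDim.OrthProper
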