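import Cfsg.Agent.Lib.KnownA.PrimeDim.Clifford
import Cfsg.Agent.Lib.Geometry.WittQuadratic

/-!
Consequences of Clifford theory in prime degree used for the orthogonal groups: lines with distinct
characters permuted transitively, absolute irreducibility, no irreducible abelian group of isometries
in odd dimension, and the core of the residual class from a scalar-free minimal normal subgroup.
-/

set_option autoImplicit false
set_option linter.unusedSectionVars false
set_option linter.style.haveILetI false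

namespace Cfsg.Agent.Lib.PrimeDim.OrthCore

open Matrix Module
open Cfsg.Agent.Lib.KnownA.PrimeDim (Eig clifford comm comm_field mem_comm actsIrreducibly_iff inv_mul_cancel_vec
  mul_inv_cancel_vec mulVec_injective eq_smul_one mem_scalars_of_matrix)
open scoped MatrixGroups Matrix

variable {ι : Type} [Fintype ι] [DecidableEq ι] {F : Type*} [Field F]

theorem mulVec_ne_zero (g : GL ι F) {v : ι → F} (hv : v ≠ 0) : (g : Matrix ι ι F) *ᵥ v ≠ 0 := fun h =>
  hv (mulVec_injective g (h.trans (Matrix.mulVec_zero _).symm))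

/-- Clifford's theorem with distinct characters and transitivity. -/
theorem trichotomy [Finite F] (hn : (Fintype.card ι).Prime) {H N : Subgroup (GL ι F)}
    (hirr : Cfsg.Geo.ActsIrreducibly (Cfsg.Geo.matrixSet H))
    (hnorm : ∀ h ∈ H, ∀ x ∈ N, h * x * h⁻¹ ∈ N) :
    (∀ x ∈ N, x ∈ Cfsg.Geo.scalars ι F) ∨
    (∃ (b : Basis ι F (ι → F)) (χ : ι → GL ι F → F),
      (∀ i, ∀ x ∈ N, (x : Matrix ι ι F) *ᵥ b i = χ i x • b i) ∧
      (∀ i j, i ≠ j → ∃ x ∈ N, χ i x ≠ χ j x) ∧
      (∀ h ∈ H, ∀ i, ∃ (j : ι) (c : F), (h : Matrix ι ι F) *ᵥ b i = c • b j) ∧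
      (∀ i j, ∃ h ∈ H, ∃ c : F, (h : Matrix ι ι F) *ᵥ b i = c • b j)) ∨
    Cfsg.Geo.ActsIrreducibly (Cfsg.Geo.matrixSet N) := by
  classical
  by_cases hns : N ≤ Cfsg.Geo.scalars ι F
  · exact Or.inl fun x hx => hns hx
  rcases clifford hn hirr hnorm hns with h | ⟨b, heig, hperm⟩
  · exact Or.inr (Or.inr h)
  right; left
  haveI : Nonempty ι := Fintype.card_pos_iff.mp hn.pos
  let χ : ι → GL ι F → F := fun i x => if hx : x ∈ N then Classical.choose (heig i x hx) else 0
  have hχ : ∀ i, ∀ x ∈ N, (x : Matrix ι ι F) *ᵥ b i = χ i x • b i := fun i x hx => by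
    simp only [χ, dif_pos hx]
    exact Classical.choose_spec (heig i x hx)
  have hmon : ∀ h ∈ H, ∀ i, ∃ (j : ι) (c : F), (h : Matrix ι ι F) *ᵥ b i = c • b j := fun h hh i => by
    obtain ⟨σ, a, ha⟩ := hperm h hh
    exact ⟨σ i, a i, ha i⟩
  have htrans : ∀ i j, ∃ h ∈ H, ∃ c : F, (h : Matrix ι ι F) *ᵥ b i = c • b j := by
    intro i j
    let S : Set ι := {j | ∃ h ∈ H, ∃ c : F, (h : Matrix ι ι F) *ᵥ b i = c • b j}
    have hinv : ∀ g ∈ H, ∀ w ∈ Submodule.span F (b '' S),
        (g : Matrix ι ι F) *ᵥ w ∈ Submodule.span F (b '' S) := by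
      intro g hg w hw
      induction hw using Submodule.span_induction with
      | mem z hz =>
        obtain ⟨k, ⟨h, hh, c, hc⟩, rfl⟩ := hz
        obtain ⟨l, d, hd⟩ := hmon g hg k
        rw [hd]
        exact Submodule.smul_mem _ _ (Submodule.subset_span ⟨l, ⟨g * h, H.mul_mem hg hh, c * d, by
          rw [Units.val_mul, ← Matrix.mulVec_mulVec, hc, Matrix.mulVec_smul, hd, smul_smul]⟩, rfl⟩)
      | zero => rw [Matrix.mulVec_zero]; exact Submodule.zero_mem _
      | add a c _ _ ha hc => rw [Matrix.mulVec_add]; exact Submodule.add_mem _ ha hc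
      | smul c a _ ha => rw [Matrix.mulVec_smul]; exact Submodule.smul_mem _ _ ha
    rcases (actsIrreducibly_iff H).mp hirr (Submodule.span F (b '' S)) hinv with h0 | h0
    · exfalso
      have : b i ∈ Submodule.span F (b '' S) :=
        Submodule.subset_span ⟨i, ⟨1, H.one_mem, 1, by simp⟩, rfl⟩
      rw [h0, Submodule.mem_bot] at this
      exact b.ne_zero i this
    · have : b j ∈ Submodule.span F (b '' S) := h0 ▸ trivial
      rw [b.mem_span_image, b.repr_self] at this
      exact this (by simp)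
  have hcompat : ∀ h ∈ H, ∀ i j, ∀ c : F, (h : Matrix ι ι F) *ᵥ b i = c • b j → ∀ x ∈ N,
      χ j x = χ i (h⁻¹ * x * h) := by
    intro h hh i j c hc x hx
    have hx' : h⁻¹ * x * h ∈ N := by simpa using hnorm h⁻¹ (H.inv_mem hh) x hx
    have h2 := congrArg ((h : Matrix ι ι F) *ᵥ ·) (hχ i _ hx')
    simp only [Matrix.mulVec_smul, Units.val_mul, ← Matrix.mulVec_mulVec, mul_inv_cancel_vec] at h2
    rw [hc, Matrix.mulVec_smul, hχ j x hx, smul_smul, smul_smul, mul_comm c] at h2
    have hc0 : c ≠ 0 := fun h0 => mulVec_ne_zero h (b.ne_zero i) (by rw [hc, h0, zero_smul])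
    exact mul_right_cancel₀ hc0 (smul_left_injective F (b.ne_zero j) h2)
  let ψ : ι → (N → F) := fun i x => χ i x
  let cls : ι → Finset ι := fun i => Finset.univ.filter fun j => ψ j = ψ i
  have hcls : ∀ i j, (cls i).card ≤ (cls j).card := by
    intro i j
    obtain ⟨h, hh, c, hc⟩ := htrans i j
    obtain ⟨σ, a, ha⟩ := hperm h hh
    refine Finset.card_le_card_of_injOn σ (fun k hk => ?_) σ.injective.injOn
    simp only [cls, Finset.coe_filter, Finset.mem_univ, true_and, Set.mem_ofPred_eq] at hk ⊢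
    refine funext fun x => ?_
    show χ (σ k) x = χ j x
    have hx' : h⁻¹ * (x : GL ι F) * h ∈ N := by simpa using hnorm h⁻¹ (H.inv_mem hh) x x.2
    rw [hcompat h hh k (σ k) (a k) (ha k) x x.2, hcompat h hh i j c hc x x.2]
    exact congrFun hk ⟨_, hx'⟩
  let i₀ := Classical.arbitrary ι
  have hd : (cls i₀).card ∣ Fintype.card ι := by
    have hsum := Finset.card_eq_sum_card_image ψ (Finset.univ : Finset ι)
    rw [← Finset.card_univ, hsum]
    refine Finset.dvd_sum fun y hy => ?_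
    obtain ⟨j, -, rfl⟩ := Finset.mem_image.mp hy
    exact dvd_of_eq (le_antisymm (hcls i₀ j) (hcls j i₀))
  rcases hn.eq_one_or_self_of_dvd _ hd with h1 | h1
  swap
  · refine absurd (fun x hx => mem_scalars_of_matrix hn.pos (c := χ i₀ x) (eq_smul_one fun v => ?_)) hns
    have hall : ∀ k, χ k x = χ i₀ x := fun k => by
      have hk : k ∈ cls i₀ := by rw [Finset.eq_univ_of_card _ h1]; exact Finset.mem_univ k
      exact congrFun (Finset.mem_filter.mp hk).2 ⟨x, hx⟩
    conv_lhs => rw [← b.sum_repr v, Matrix.mulVec_sum]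
    conv_rhs => rw [← b.sum_repr v, Finset.smul_sum]
    exact Finset.sum_congr rfl fun k _ => by rw [Matrix.mulVec_smul, hχ k x hx, hall k, smul_comm]
  refine ⟨b, χ, hχ, fun i j hij => ?_, hmon, htrans⟩
  by_contra hc
  push Not at hc
  have : (cls j).card ≤ 1 := h1 ▸ hcls j i₀
  exact hij (Finset.card_le_one.mp this i (Finset.mem_filter.mpr ⟨Finset.mem_univ _, funext fun x => hc x x.2⟩) j
    (Finset.mem_filter.mpr ⟨Finset.mem_univ _, rfl⟩))

/-- A field of matrices of degree the dimension generates from every vector. -/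
theorem gen_of_field {K : Subalgebra F (Matrix ι ι F)}
    (hK : Cfsg.Geo.IsFieldSubalgebra (Fintype.card ι) K) {v : ι → F} (hv : v ≠ 0) (w : ι → F) :
    ∃ k ∈ K, k *ᵥ v = w := by
  let L : K →ₗ[F] (ι → F) :=
    { toFun := fun k => (k : Matrix ι ι F) *ᵥ v
      map_add' := fun a b => by simp [Matrix.add_mulVec]
      map_smul' := fun c a => by simp [Matrix.smul_mulVec] }
  have hinj : Function.Injective L := (injective_iff_map_eq_zero _).mpr fun k hk => by
    by_contra hk0
    obtain ⟨y, hy, hky⟩ := hK.inv k k.2 (fun h => hk0 (Subtype.ext h))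
    refine hv ?_
    have h : (k : Matrix ι ι F) *ᵥ v = 0 := hk
    have := congrArg (y *ᵥ ·) h
    simp only [Matrix.mulVec_mulVec, Matrix.mulVec_zero] at this
    rwa [hK.comm y hy _ k.2, hky, Matrix.one_mulVec] at this
  obtain ⟨k, hk⟩ := (LinearMap.injective_iff_surjective_of_finrank_eq_finrank
    (by rw [hK.finrank_eq, Module.finrank_fintype_fun_eq_card])).mp hinj w
  exact ⟨k, k.2, hk⟩

/-- An irreducible non-abelian group in prime dimension is absolutely irreducible. -/
theorem absolutely_irreducible [Finite F] (hn : (Fintype.card ι).Prime) {N : Subgroup (GL ι F)}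
    (hirr : Cfsg.Geo.ActsIrreducibly (Cfsg.Geo.matrixSet N))
    (hnab : ∃ x ∈ N, ∃ y ∈ N, x * y ≠ y * x) :
    Cfsg.Geo.ActsAbsolutelyIrreducibly (Cfsg.Geo.matrixSet N) := by
  rcases comm_field hn hirr with h | h
  · exact ⟨hirr, h⟩
  exfalso
  haveI : Nonempty ι := Fintype.card_pos_iff.mp hn.pos
  let v : ι → F := Pi.single (Classical.arbitrary ι) 1
  have hv : v ≠ 0 := by simp [v]
  obtain ⟨x, hx, y, hy, hxy⟩ := hnab
  obtain ⟨k, hk, hkv⟩ := gen_of_field h hv ((x : Matrix ι ι F) *ᵥ v)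
  have hxk : (x : Matrix ι ι F) = k := Matrix.ext_of_mulVec_single fun j => by
    obtain ⟨l, hl, hlv⟩ := gen_of_field h hv (Pi.single j 1)
    rw [← hlv, Matrix.mulVec_mulVec, Matrix.mulVec_mulVec, mem_comm.mp hl x hx, h.comm k hk l hl,
      ← Matrix.mulVec_mulVec, ← Matrix.mulVec_mulVec, hkv]
  exact hxy (Units.ext (by rw [Units.val_mul, Units.val_mul, hxk, ← mem_comm.mp hk y hy]))

open Cfsg.Agent.Lib.Geometry (quad_polar_comm) in
/-- No irreducible abelian group of isometries in odd prime dimension. -/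
theorem no_abelian_irreducible [Finite F] (hn : (Fintype.card ι).Prime) (hodd : Odd (Fintype.card ι))
    (h2 : (2 : F) ≠ 0) (Q : QuadraticForm F (ι → F)) (hN : (QuadraticMap.polarBilin Q).Nondegenerate)
    {N : Subgroup (GL ι F)} (hiso : N ≤ Cfsg.isometryGroup F ⇑Q)
    (hab : ∀ x ∈ N, ∀ y ∈ N, x * y = y * x) :
    ¬ Cfsg.Geo.ActsIrreducibly (Cfsg.Geo.matrixSet N) := by
  intro hirr
  haveI : Nonempty ι := Fintype.card_pos_iff.mp hn.pos
  set K : Subalgebra F (Matrix ι ι F) := Algebra.adjoin F (Cfsg.Geo.matrixSet N) with hKdef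
  let B := QuadraticMap.polarBilin Q
  have hgen : ∀ x ∈ N, (x : Matrix ι ι F) ∈ K := fun x hx => Algebra.subset_adjoin ⟨x, hx, rfl⟩
  have hKc : ∀ k ∈ K, ∀ x ∈ N, (x : Matrix ι ι F) * k = k * x := by
    intro k hk x hx
    induction hk using Algebra.adjoin_induction with
    | mem z hz => obtain ⟨y, hy, rfl⟩ := hz; exact congrArg Units.val (hab x hx y hy)
    | algebraMap r => exact (Algebra.commutes r _).symm
    | add a c _ _ ha hc => rw [mul_add, add_mul, ha, hc]
    | mul a c _ _ ha hc => rw [← mul_assoc, ha, mul_assoc, hc, mul_assoc]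
  have hKK : ∀ k ∈ K, ∀ l ∈ K, k * l = l * k := by
    intro k hk l hl
    induction hl using Algebra.adjoin_induction with
    | mem z hz => obtain ⟨y, hy, rfl⟩ := hz; exact (hKc k hk y hy).symm
    | algebraMap r => exact (Algebra.commutes r _).symm
    | add a c _ _ ha hc => rw [mul_add, add_mul, ha, hc]
    | mul a c _ _ ha hc => rw [← mul_assoc, ha, mul_assoc, hc, mul_assoc]
  have hKinj : ∀ k ∈ K, k ≠ 0 → ∀ v, k *ᵥ v = 0 → v = 0 := by
    intro k hk hk0 v hv
    exact Matrix.mulVec_injective_iff_isUnit.mpr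
      (Cfsg.Agent.Lib.KnownA.PrimeDim.comm_isUnit hirr (mem_comm.mpr fun x hx => hKc k hk x hx) hk0)
      (hv.trans (Matrix.mulVec_zero _).symm)
  obtain ⟨v, hv⟩ : ∃ v : ι → F, v ≠ 0 := ⟨Pi.single (Classical.arbitrary ι) 1, by simp⟩
  let L : K →ₗ[F] (ι → F) :=
    { toFun := fun k => (k : Matrix ι ι F) *ᵥ v
      map_add' := fun a b => by simp [Matrix.add_mulVec]
      map_smul' := fun c a => by simp [Matrix.smul_mulVec] }
  have hLinj : Function.Injective L := (injective_iff_map_eq_zero _).mpr fun k hk => by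
    by_contra hk0
    exact hv (hKinj k k.2 (fun h => hk0 (Subtype.ext h)) v hk)
  have hLtop : LinearMap.range L = ⊤ := by
    refine ((actsIrreducibly_iff N).mp hirr _ fun x hx w hw => ?_).resolve_left fun h => hv ?_
    · obtain ⟨k, rfl⟩ := hw
      exact ⟨⟨_, hgen x hx⟩ * k, (Matrix.mulVec_mulVec v _ _).symm⟩
    · have : v ∈ LinearMap.range L := ⟨1, Matrix.one_mulVec v⟩
      rwa [h, Submodule.mem_bot] at this
  have hdim : finrank F K = Fintype.card ι := by
    rw [← LinearMap.finrank_range_of_inj hLinj, hLtop, finrank_top, Module.finrank_fintype_fun_eq_card]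
  have hadj : ∀ k ∈ K, ∃ k' ∈ K, ∀ u w, B (k *ᵥ u) w = B u (k' *ᵥ w) := by
    intro k hk
    induction hk using Algebra.adjoin_induction with
    | mem z hz =>
      obtain ⟨x, hx, rfl⟩ := hz
      refine ⟨_, hgen _ (N.inv_mem hx), fun u w => ?_⟩
      have h1 : ∀ a c, B ((x : Matrix ι ι F) *ᵥ a) ((x : Matrix ι ι F) *ᵥ c) = B a c := fun a c => by
        have hq : ∀ y, Q ((x : Matrix ι ι F) *ᵥ y) = Q y := fun y => hiso hx y y
        simp only [B, QuadraticMap.polarBilin_apply_apply, QuadraticMap.polar, ← Matrix.mulVec_add, hq]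
      conv_lhs => rw [← mul_inv_cancel_vec x w]
      rw [h1]
    | algebraMap r =>
      exact ⟨_, K.algebraMap_mem r, fun u w => by
        simp only [Algebra.algebraMap_eq_smul_one, Matrix.smul_mulVec, Matrix.one_mulVec, map_smul,
          LinearMap.smul_apply]⟩
    | add a c _ _ ha hc =>
      obtain ⟨a', ha', hA⟩ := ha
      obtain ⟨c', hc', hC⟩ := hc
      exact ⟨_, K.add_mem ha' hc', fun u w => by
        rw [Matrix.add_mulVec, Matrix.add_mulVec, map_add, map_add, LinearMap.add_apply, hA, hC]⟩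
    | mul a c _ _ ha hc =>
      obtain ⟨a', ha', hA⟩ := ha
      obtain ⟨c', hc', hC⟩ := hc
      exact ⟨_, K.mul_mem hc' ha', fun u w => by
        rw [← Matrix.mulVec_mulVec, ← Matrix.mulVec_mulVec, hA, hC]⟩
  let P : F → Submodule F (Matrix ι ι F) := fun s =>
    { carrier := {k | k ∈ K ∧ ∀ u w, B (k *ᵥ u) w = s * B u (k *ᵥ w)}
      add_mem' := fun {a c} ha hc => ⟨K.add_mem ha.1 hc.1, fun u w => by
        rw [Matrix.add_mulVec, Matrix.add_mulVec, map_add, map_add, LinearMap.add_apply, ha.2, hc.2, mul_add]⟩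
      zero_mem' := ⟨K.zero_mem, fun u w => by simp⟩
      smul_mem' := fun c a ha => ⟨K.smul_mem ha.1 c, fun u w => by
        rw [Matrix.smul_mulVec, Matrix.smul_mulVec, map_smul, map_smul, LinearMap.smul_apply, ha.2,
          smul_eq_mul, smul_eq_mul]; ring⟩ }
  have hP : ∀ {s k}, k ∈ P s ↔ k ∈ K ∧ ∀ u w, B (k *ᵥ u) w = s * B u (k *ᵥ w) := fun {s k} => Iff.rfl
  have hinf : P 1 ⊓ P (-1) = ⊥ := by
    refine (Submodule.eq_bot_iff _).mpr fun k hk => ?_
    refine Matrix.ext_of_mulVec_single fun j => ?_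
    rw [Matrix.zero_mulVec]
    refine hN.1 _ fun w => ?_
    show B (k *ᵥ Pi.single j 1) w = 0
    have h1 := (hP.mp hk.1).2 (Pi.single j 1) w
    have h3 := (hP.mp hk.2).2 (Pi.single j 1) w
    refine (mul_eq_zero.mp ?_).resolve_left h2
    linear_combination h1 + h3
  have hsup : P 1 ⊔ P (-1) = Subalgebra.toSubmodule K := by
    refine le_antisymm (sup_le (fun k hk => hk.1) fun k hk => hk.1) fun k hk => ?_
    obtain ⟨k', hk', hkk⟩ := hadj k hk
    have hkk' : ∀ u w, B (k' *ᵥ u) w = B u (k *ᵥ w) := fun u w => by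
      simp only [B]
      rw [quad_polar_comm Q (k' *ᵥ u) w, quad_polar_comm Q u]
      exact (hkk w u).symm
    refine Submodule.mem_sup.mpr ⟨(2 : F)⁻¹ • (k + k'), ⟨K.smul_mem (K.add_mem hk hk') _, fun u w => ?_⟩,
      (2 : F)⁻¹ • (k - k'), ⟨K.smul_mem (K.sub_mem hk hk') _, fun u w => ?_⟩, ?_⟩
    · simp only [Matrix.smul_mulVec, Matrix.add_mulVec, map_smul, map_add, LinearMap.smul_apply,
        LinearMap.add_apply, hkk, hkk', smul_eq_mul]
      ring
    · simp only [Matrix.smul_mulVec, Matrix.sub_mulVec, map_smul, map_sub, LinearMap.smul_apply,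
        LinearMap.sub_apply, hkk, hkk', smul_eq_mul]
      ring
    · rw [← smul_add, add_add_sub_cancel, ← two_smul F, smul_smul, inv_mul_cancel₀ h2, one_smul]
  have hcount := Submodule.finrank_sup_add_finrank_inf_eq (P 1) (P (-1))
  rw [hinf, hsup, finrank_bot, add_zero, show finrank F (Subalgebra.toSubmodule K) = finrank F K from rfl,
    hdim] at hcount
  have hzero : P (-1) = ⊥ := by
    by_contra hne
    obtain ⟨k, hk, hk0⟩ := (Submodule.ne_bot_iff _).mp hne
    have hmap : ∀ s : F, ∀ a ∈ P s, k * a ∈ P (-s) := fun s a ha => ⟨K.mul_mem hk.1 ha.1, fun u w => by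
      rw [← Matrix.mulVec_mulVec, (hP.mp hk).2, (hP.mp ha).2, Matrix.mulVec_mulVec, hKK a ha.1 k hk.1]
      ring⟩
    have hle : ∀ s : F, finrank F (P s) ≤ finrank F (P (-s)) := fun s => by
      refine LinearMap.finrank_le_finrank_of_injective
        (f := ((LinearMap.mulLeft F k).domRestrict (P s)).codRestrict (P (-s)) fun a => hmap s a a.2) ?_
      intro a c hac
      have h : k * (a : Matrix ι ι F) = k * c := congrArg Subtype.val hac
      have hu := Cfsg.Agent.Lib.KnownA.PrimeDim.comm_isUnit hirr (mem_comm.mpr fun x hx => hKc k hk.1 x hx) hk0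
      exact Subtype.ext (hu.mul_left_cancel h)
    have h1 := hle 1
    have h3 := hle (-1)
    rw [neg_neg] at h3
    obtain ⟨t, ht⟩ := hodd
    omega
  have hself : ∀ k ∈ K, k ∈ P 1 := fun k hk => by
    have : k ∈ P 1 ⊔ P (-1) := hsup.symm ▸ hk
    rwa [hzero, sup_bot_eq] at this
  -- every element is plus or minus one
  have hsq : ∀ x ∈ N, ∃ c : F, (x : Matrix ι ι F) = c • 1 := by
    intro x hx
    have h1 : ∀ u w, B ((x : Matrix ι ι F) *ᵥ u) ((x : Matrix ι ι F) *ᵥ w) = B u w := fun a c => by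
      have hq : ∀ y, Q ((x : Matrix ι ι F) *ᵥ y) = Q y := fun y => hiso hx y y
      simp only [B, QuadraticMap.polarBilin_apply_apply, QuadraticMap.polar, ← Matrix.mulVec_add, hq]
    have hxx : (x : Matrix ι ι F) * x = 1 := Matrix.ext_of_mulVec_single fun j => by
      rw [Matrix.one_mulVec, ← sub_eq_zero]
      refine hN.2 _ fun u => ?_
      show B u _ = 0
      rw [map_sub, ← Matrix.mulVec_mulVec]
      have := (hP.mp (hself _ (hgen x hx))).2 u ((x : Matrix ι ι F) *ᵥ Pi.single j 1)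
      rw [one_mul, h1] at this
      rw [← this, sub_self]
    have hprod : ((x : Matrix ι ι F) - 1) * ((x : Matrix ι ι F) + 1) = 0 := by
      rw [sub_mul, mul_add, one_mul, mul_one, hxx]; abel
    rcases eq_or_ne ((x : Matrix ι ι F) - 1) 0 with h | h
    · exact ⟨1, by rw [one_smul]; exact sub_eq_zero.mp h⟩
    · have hu := Cfsg.Agent.Lib.KnownA.PrimeDim.comm_isUnit hirr
        (mem_comm.mpr fun y hy => hKc _ (K.sub_mem (hgen x hx) K.one_mem) y hy) h
      exact ⟨-1, by rw [neg_one_smul]; exact eq_neg_of_add_eq_zero_left (hu.mul_right_eq_zero.mp hprod)⟩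
  rcases (actsIrreducibly_iff N).mp hirr (F ∙ v) (fun x hx w hw => by
      obtain ⟨c, hc⟩ := hsq x hx
      rw [hc, Matrix.smul_mulVec, Matrix.one_mulVec]
      exact Submodule.smul_mem _ _ hw) with h | h
  · exact hv (Submodule.span_singleton_eq_bot.mp h)
  · have := finrank_span_singleton (K := F) hv
    rw [h, finrank_top, Module.finrank_fintype_fun_eq_card] at this
    exact hn.ne_one this

/-- A minimal non-trivial normal subgroup. -/
theorem exists_minimal_normal [Finite F] {H : Subgroup (GL ι F)} (hH : H ≠ ⊥) :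
    ∃ N : Subgroup (GL ι F), N ≤ H ∧ N ≠ ⊥ ∧ (∀ h ∈ H, ∀ x ∈ N, h * x * h⁻¹ ∈ N) ∧
      ∀ M : Subgroup (GL ι F), M ≤ N → (∀ h ∈ H, ∀ x ∈ M, h * x * h⁻¹ ∈ M) → M = ⊥ ∨ M = N := by
  obtain ⟨N, ⟨hle, h0, hnor⟩, hmin⟩ := (wellFounded_lt (α := Subgroup (GL ι F))).has_min
    {N | N ≤ H ∧ N ≠ ⊥ ∧ ∀ h ∈ H, ∀ x ∈ N, h * x * h⁻¹ ∈ N}
    ⟨H, le_rfl, hH, fun h hh x hx => H.mul_mem (H.mul_mem hh hx) (H.inv_mem hh)⟩
  refine ⟨N, hle, h0, hnor, fun M hM hMn => ?_⟩
  by_contra hc
  push Not at hc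
  exact hmin M ⟨hM.trans hle, hc.1, hMn⟩ (lt_of_le_of_ne hM hc.2)

set_option maxHeartbeats 1000000 in
/-- A minimal normal irreducible non-abelian subgroup without scalars is a residual core, apart from
the condition on subfields. -/
theorem residual_core [Finite F] (hn : (Fintype.card ι).Prime) {H N : Subgroup (GL ι F)} (hle : N ≤ H)
    (hnor : ∀ h ∈ H, ∀ x ∈ N, h * x * h⁻¹ ∈ N)
    (hmin : ∀ M : Subgroup (GL ι F), M ≤ N → (∀ h ∈ H, ∀ x ∈ M, h * x * h⁻¹ ∈ M) → M = ⊥ ∨ M = N)
    (hs : ∀ x ∈ N, x ∈ Cfsg.Geo.scalars ι F → x = 1)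
    (hirr : Cfsg.Geo.ActsIrreducibly (Cfsg.Geo.matrixSet N))
    (hnab : ∃ x ∈ N, ∃ y ∈ N, x * y ≠ y * x)
    (hsub : ∀ F₀ : Subfield F, F₀ ≠ ⊤ → ¬ Cfsg.Geo.RealisableOver F₀ (Cfsg.Geo.matrixSet N)) :
    Cfsg.Geo.IsResidualCore H N := by
  classical
  have habs := absolutely_irreducible hn hirr hnab
  obtain ⟨x₀, hx₀, y₀, hy₀, hxy⟩ := hnab
  have hcentral : ∀ g : GL ι F, (∀ x ∈ N, g * x = x * g) → g ∈ Cfsg.Geo.scalars ι F := by
    intro g hg
    obtain ⟨c, hc⟩ := habs.2 g (by rintro _ ⟨x, hx, rfl⟩; exact congrArg Units.val (hg x hx))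
    haveI : Nonempty ι := Fintype.card_pos_iff.mp hn.pos
    have hc0 : c ≠ 0 := fun h0 => g.ne_zero (by rw [hc, h0, zero_smul])
    exact (Cfsg.Geo.mem_scalars_iff g).mpr ⟨Units.mk0 c hc0, hc⟩
  have hNperf : ⁅N, N⁆ = N := by
    refine (hmin ⁅N, N⁆ (Subgroup.commutator_le.mpr fun a ha b hb =>
      N.mul_mem (N.mul_mem (N.mul_mem ha hb) (N.inv_mem ha)) (N.inv_mem hb)) fun h hh x hx => ?_).resolve_left
      fun h => hxy ?_
    · have hmap : (⁅N, N⁆ : Subgroup (GL ι F)).map (MulAut.conj h).toMonoidHom ≤ ⁅N, N⁆ := by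
        rw [Subgroup.map_commutator]
        refine Subgroup.commutator_mono ?_ ?_ <;> (rintro _ ⟨y, hy, rfl⟩; exact hnor h hh y hy)
      exact hmap ⟨x, hx, rfl⟩
    · have := Subgroup.commutator_mem_commutator hx₀ hy₀
      rw [h, Subgroup.mem_bot] at this
      exact commutatorElement_eq_one_iff_mul_comm.mp this
  have hsimple : IsSimpleGroup N := by
    haveI : Nontrivial N := ⟨⟨x₀, hx₀⟩, 1, fun h => hxy (by
      rw [show x₀ = 1 from congrArg Subtype.val h, one_mul, mul_one])⟩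
    have hN0 : N ≠ ⊥ := fun h => by
      rw [h, Subgroup.mem_bot] at hx₀
      exact hxy (by rw [hx₀, one_mul, mul_one])
    obtain ⟨K, hKN, hK0, hKn, hKmin⟩ := exists_minimal_normal hN0
    by_cases hall : ∀ h ∈ H, ∀ x ∈ K, h * x * h⁻¹ ∈ K
    · have hKeq : K = N := (hmin K hKN hall).resolve_left hK0
      subst hKeq
      refine ⟨fun L hL => ?_⟩
      rcases hKmin (L.map K.subtype) (Subgroup.map_subtype_le L) (by
        rintro h hh _ ⟨x, hx, rfl⟩
        exact ⟨⟨h, hh⟩ * x * ⟨h, hh⟩⁻¹, hL.conj_mem x hx _, rfl⟩) with h | h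
      · exact Or.inl ((Subgroup.map_eq_bot_iff_of_injective L K.subtype_injective).mp h)
      · refine Or.inr (eq_top_iff.mpr fun z _ => ?_)
        obtain ⟨y, hy, hyz⟩ : (z : GL ι F) ∈ L.map K.subtype := h.symm ▸ z.2
        exact Subtype.ext hyz ▸ hy
    exfalso
    let C : GL ι F → Subgroup (GL ι F) := fun h => K.map (MulAut.conj h).toMonoidHom
    have hCN : ∀ h ∈ H, C h ≤ N := by
      rintro h hh _ ⟨x, hx, rfl⟩; exact hnor h hh x (hKN hx)
    have hCn : ∀ h ∈ H, ∀ g ∈ N, ∀ y ∈ C h, g * y * g⁻¹ ∈ C h := by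
      rintro h hh g hg _ ⟨x, hx, rfl⟩
      have hg' : h⁻¹ * g * h ∈ N := by simpa using hnor h⁻¹ (H.inv_mem hh) g hg
      exact ⟨_, hKn _ hg' x hx, by simp only [MulEquiv.coe_toMonoidHom, MulAut.conj_apply]; group⟩
    have hCinf : ∀ h ∈ H, ∀ h' ∈ H, ∀ a ∈ C h, ∀ b ∈ C h', C h = C h' ∨ a * b = b * a := by
      intro h hh h' hh' a ha b hb
      by_cases heq : C h = C h'
      · exact Or.inl heq
      right
      have hbot : C h ⊓ C h' = ⊥ := by
        let M := (C h ⊓ C h').comap (MulAut.conj h).toMonoidHom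
        have hM : ∀ {x}, x ∈ M ↔ h * x * h⁻¹ ∈ C h ⊓ C h' := by simp [M]
        have hMK : M ≤ K := fun x hx => by
          obtain ⟨y, hy, he⟩ := (hM.mp hx).1
          have : y = x := (MulAut.conj h).injective he
          exact this ▸ hy
        have hMn : ∀ g ∈ N, ∀ x ∈ M, g * x * g⁻¹ ∈ M := by
          intro g hg x hx
          have e : h * (g * x * g⁻¹) * h⁻¹ = (h * g * h⁻¹) * (h * x * h⁻¹) * (h * g * h⁻¹)⁻¹ := by group
          refine hM.mpr ?_
          rw [e]
          exact ⟨hCn h hh _ (hnor h hh g hg) _ (hM.mp hx).1, hCn h' hh' _ (hnor h hh g hg) _ (hM.mp hx).2⟩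
        rcases hKmin M hMK hMn with h0 | h0
        · refine (Subgroup.eq_bot_iff_forall _).mpr fun z hz => ?_
          have : h⁻¹ * z * h ∈ M := hM.mpr (by simpa [mul_assoc] using hz)
          rw [h0, Subgroup.mem_bot] at this
          calc z = h * (h⁻¹ * z * h) * h⁻¹ := by group
            _ = 1 := by rw [this]; group
        · exfalso
          refine heq (Subgroup.eq_of_le_of_card_ge ?_ (le_of_eq ?_))
          · rintro _ ⟨x, hx, rfl⟩
            exact (hM.mp (h0.symm ▸ hx)).2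
          · exact (Subgroup.card_map_of_injective (f := (MulAut.conj h').toMonoidHom) (MulAut.conj h').injective).trans
              (Subgroup.card_map_of_injective (f := (MulAut.conj h).toMonoidHom) (MulAut.conj h).injective).symm
      have h1 : a * b * a⁻¹ * b⁻¹ ∈ C h ⊓ C h' :=
        Subgroup.mem_inf.mpr
          ⟨by rw [show a * b * a⁻¹ * b⁻¹ = a * (b * a⁻¹ * b⁻¹) by group]
              exact (C h).mul_mem ha (hCn h hh b (hCN h' hh' hb) _ ((C h).inv_mem ha)),
            (C h').mul_mem (hCn h' hh' a (hCN h hh ha) _ hb) ((C h').inv_mem hb)⟩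
      rw [hbot, Subgroup.mem_bot] at h1
      exact commutatorElement_eq_one_iff_mul_comm.mp h1
    push Not at hall
    obtain ⟨h₁, hh₁, k₁, hk₁, hk₁'⟩ := hall
    have hC1 : ∀ {z}, z ∈ C 1 ↔ z ∈ K := fun {z} => by simp [C]
    have hne : C h₁ ≠ C 1 := fun h => hk₁' (hC1.mp (h ▸ ⟨k₁, hk₁, rfl⟩))
    have hKab : ∀ a ∈ K, ∀ b ∈ K, a * b = b * a := by
      rcases trichotomy hn hirr hKn with h | ⟨b, χ, hχ, -⟩ | h
      · exact absurd ((Subgroup.eq_bot_iff_forall _).mpr fun x hx => hs x (hKN hx) (h x hx)) hK0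
      · intro a ha c hc
        refine Units.ext (Matrix.toLin'.injective (b.ext fun i => ?_))
        simp only [Matrix.toLin'_apply, Units.val_mul, ← Matrix.mulVec_mulVec, hχ i a ha, hχ i c hc,
          Matrix.mulVec_smul, smul_smul, mul_comm]
      · by_contra hab
        push Not at hab
        have habsK := absolutely_irreducible hn h hab
        have hy0 : h₁ * k₁ * h₁⁻¹ = 1 := by
          refine hs _ (hnor h₁ hh₁ k₁ (hKN hk₁)) ?_
          obtain ⟨c, hc⟩ := habsK.2 (h₁ * k₁ * h₁⁻¹ : GL ι F) (by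
            rintro _ ⟨x, hx, rfl⟩
            rcases hCinf h₁ hh₁ 1 H.one_mem (h₁ * k₁ * h₁⁻¹) ⟨k₁, hk₁, rfl⟩ x (hC1.mpr hx) with he | he
            · exact absurd he hne
            · exact congrArg Units.val he)
          haveI : Nonempty ι := Fintype.card_pos_iff.mp hn.pos
          have hc0 : c ≠ 0 := fun h0 => (h₁ * k₁ * h₁⁻¹ : GL ι F).ne_zero (by rw [hc, h0, zero_smul])
          exact (Cfsg.Geo.mem_scalars_iff _).mpr ⟨Units.mk0 c hc0, hc⟩
        exact hk₁' (hy0 ▸ K.one_mem)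
    let S : Set (GL ι F) := {y | ∃ h ∈ H, y ∈ C h}
    have hScomm : ∀ a ∈ S, ∀ b ∈ S, a * b = b * a := by
      rintro a ⟨h, hh, ha⟩ b ⟨h', hh', hb⟩
      rcases hCinf h hh h' hh' a ha b hb with he | he
      · rw [← he] at hb
        obtain ⟨x, hx, rfl⟩ := ha
        obtain ⟨y, hy, rfl⟩ := hb
        rw [← map_mul, ← map_mul, hKab x hx y hy]
      · exact he
    have hSN : Subgroup.closure S = N := by
      refine (hmin _ ((Subgroup.closure_le _).mpr fun y hy => ?_) fun g hg x hx => ?_).resolve_left fun h0 => ?_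
      · obtain ⟨h, hh, hy'⟩ := hy; exact hCN h hh hy'
      · have hmap : (Subgroup.closure S).map (MulAut.conj g).toMonoidHom ≤ Subgroup.closure S := by
          rw [MonoidHom.map_closure]
          refine Subgroup.closure_mono ?_
          rintro _ ⟨y, ⟨h, hh, z, hz, rfl⟩, rfl⟩
          exact ⟨g * h, H.mul_mem hg hh, z, hz, by
            simp only [MulEquiv.coe_toMonoidHom, MulAut.conj_apply]; group⟩
        exact hmap ⟨x, hx, rfl⟩
      · refine hk₁' ?_
        have : h₁ * k₁ * h₁⁻¹ ∈ Subgroup.closure S := Subgroup.subset_closure ⟨h₁, hh₁, k₁, hk₁, rfl⟩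
        rw [h0, Subgroup.mem_bot] at this
        rw [this]; exact K.one_mem
    have hSc : ∀ a ∈ S, a ∈ Subgroup.centralizer (N : Set (GL ι F)) := by
      intro a ha
      refine Subgroup.mem_centralizer_iff.mpr fun z hz => ?_
      rw [SetLike.mem_coe, ← hSN] at hz
      have hle : Subgroup.closure S ≤ Subgroup.centralizer {a} := (Subgroup.closure_le _).mpr fun b hb => by
        simp [Subgroup.mem_centralizer_iff, hScomm a ha b hb]
      exact (Subgroup.mem_centralizer_iff.mp (hle hz) a rfl).symm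
    have hle : Subgroup.closure S ≤ Subgroup.centralizer (N : Set (GL ι F)) :=
      (Subgroup.closure_le _).mpr hSc
    rw [hSN] at hle
    exact hxy (Subgroup.mem_centralizer_iff.mp (hle hy₀) x₀ hx₀)
  have hbot : (Cfsg.Geo.scalars ι F).subgroupOf N = ⊥ :=
    (Subgroup.eq_bot_iff_forall _).mpr fun x hx => Subtype.ext (hs x x.2 hx)
  have e : (N ⧸ (Cfsg.Geo.scalars ι F).subgroupOf N) ≃* N :=
    (QuotientGroup.quotientMulEquivOfEq hbot).trans QuotientGroup.quotientBot
  refine ⟨hle, hnor, hNperf, ?_, ?_, fun h hh hc => hcentral h fun x hx => ?_, habs, hsub⟩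
  · haveI := hsimple
    haveI : Nontrivial (N ⧸ (Cfsg.Geo.scalars ι F).subgroupOf N) := e.toEquiv.nontrivial
    exact IsSimpleGroup.isSimpleGroup_of_surjective e.symm.toMonoidHom e.symm.surjective
  · intro hc
    refine hxy ?_
    have := hc.is_comm.comm (e.symm ⟨x₀, hx₀⟩) (e.symm ⟨y₀, hy₀⟩)
    rw [← map_mul, ← map_mul] at this
    exact congrArg Subtype.val (e.symm.injective this)
  · have := hs _ (N.mul_mem (hnor h hh x hx) (N.inv_mem hx)) (hc x hx)
    rw [mul_inv_eq_one, mul_inv_eq_iff_eq_mul] at this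
    exact this

end Cfsg.Agent.Lib.PrimeDim.OrthCore
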