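import Cfsg.Agent.Lib.PrimeDim.OrthProper
import Cfsg.Agent.Lib.PrimeDim.OrthCore
import Cfsg.Agent.Lib.PrimeDim.FormDescent

/-!
Maximal subgroups of `Ω` in odd prime dimension at least seven over a field of odd order.
-/

set_option autoImplicit false
set_option linter.unusedSectionVars false
set_option linter.style.haveILetI false

namespace Cfsg.Agent.Lib.PrimeDim.OrthCases

open Matrix Module QuadraticMap Cfsg.Agent.Lib.MaxSub
open Cfsg.Agent.Lib.Geometry (quad_add quad_sub quad_smul quad_polar_self quad_polar_comm)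
open scoped MatrixGroups Matrix

attribute [-simp] QuadraticMap.polarBilin_apply_apply

variable {ι : Type} [Fintype ι] [DecidableEq ι] {F : Type*} [Field F]

/-- A fixed point of an involution on a set of odd size. -/
theorem exists_fixed (π : ι → ι) (hπ : ∀ i, π (π i) = i) (hodd : Odd (Fintype.card ι)) : ∃ i, π i = i := by
  by_contra hc
  push Not at hc
  have h := Finset.sum_involution (s := (Finset.univ : Finset ι)) (f := fun _ => (1 : ZMod 2))
    (fun i _ => π i) (fun i _ => by decide) (fun i _ _ => hc i) (fun i _ => Finset.mem_univ _) (fun i _ => hπ i)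
  rw [Finset.sum_const, Finset.card_univ, nsmul_one, ZMod.natCast_eq_zero_iff_even] at h
  exact Nat.not_even_iff_odd.mpr hodd h

theorem nondegenerateForm {Q : QuadraticForm F (ι → F)} (hN : (polarBilin Q).Nondegenerate) :
    Cfsg.Geo.IsNondegenerateQuadraticForm (⇑Q) := by
  refine ⟨fun c v => by rw [quad_smul, pow_two], ⟨?_, ?_, ?_, ?_⟩, fun v hv => ⟨?_, ?_⟩⟩
  · intro x y v; simp only [← polarBilin_apply_apply, map_add, LinearMap.add_apply]
  · intro c x v; simp only [← polarBilin_apply_apply, map_smul, LinearMap.smul_apply, smul_eq_mul]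
  · intro v x y; simp only [← polarBilin_apply_apply, map_add]
  · intro c v x; simp only [← polarBilin_apply_apply, map_smul, smul_eq_mul]
  · by_contra hc
    push Not at hc
    exact hv (hN.2 v fun x => by rw [polarBilin_apply_apply]; exact hc x)
  · by_contra hc
    push Not at hc
    exact hv (hN.1 v fun x => by rw [polarBilin_apply_apply]; exact hc x)

variable {Q : QuadraticForm F (ι → F)} (hN : (polarBilin Q).Nondegenerate)

include hN in
/-- The monomial case. -/
theorem monomial_case [Fintype F] (h2 : (2 : F) ≠ 0) (hn : (Fintype.card ι).Prime) (h7 : 7 ≤ Fintype.card ι)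
    (hd : ∀ F₀ : Subfield F, (Cfsg.Geo.gramMatrix (QuadraticMap.polar ⇑Q)).det ∈ F₀)
    {t : ℕ} (ht : t = Fintype.card ι)
    {H N : Subgroup (GL ι F)} (hH : Cfsg.Geo.IsMaximalIn (Cfsg.Geo.omegaGL ⇑Q) H) (hNH : N ≤ H)
    (b : Basis ι F (ι → F)) (χ : ι → GL ι F → F)
    (hχ : ∀ i, ∀ x ∈ N, (x : Matrix ι ι F) *ᵥ b i = χ i x • b i)
    (hdist : ∀ i j, i ≠ j → ∃ x ∈ N, χ i x ≠ χ j x)
    (hmon : ∀ h ∈ H, ∀ i, ∃ (j : ι) (c : F), (h : Matrix ι ι F) *ᵥ b i = c • b j)
    (htrans : ∀ i j, ∃ h ∈ H, ∃ c : F, (h : Matrix ι ι F) *ᵥ b i = c • b j) :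
    ((Fintype.card F).Prime ∧ ∃ D : Fin t → Submodule F (ι → F),
      Cfsg.Geo.IsOrthogonalMDecomposition (⇑Q) 1 D ∧
      H = Cfsg.Geo.decompositionStabilizer D ⊓ Cfsg.Geo.omegaGL ⇑Q) ∨
    (∃ (F₀ : Subfield F) (r : ℕ) (P : GL ι F), r.Prime ∧ Fintype.card F = Nat.card F₀ ^ r ∧
      Cfsg.Geo.IsQuadFormRationalStructure (⇑Q) F₀ P ∧
      H = Cfsg.Geo.subfieldSubgroup F₀ P ⊓ Cfsg.Geo.omegaGL ⇑Q) := by
  classical
  haveI : Nonempty ι := Fintype.card_pos_iff.mp hn.pos
  have hodd : Odd (Fintype.card ι) := hn.odd_of_ne_two (by omega)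
  have hiso : ∀ g ∈ H, g ∈ Cfsg.isometryGroup F ⇑Q := fun g hg => Orth.omegaGL_le_isometry (hH.1.le hg)
  have hBB : ∀ i j, ∀ x ∈ N, polarBilin Q (b i) (b j) ≠ 0 → χ i x * χ j x = 1 := by
    intro i j x hx hne
    have h := Orth.iso_polar (hiso x (hNH hx)) (b i) (b j)
    rw [hχ i x hx, hχ j x hx, map_smul, map_smul, LinearMap.smul_apply, smul_eq_mul, smul_eq_mul,
      ← mul_assoc] at h
    rw [mul_comm]
    exact (mul_eq_right₀ hne).mp h
  have hpart : ∀ i, ∃ j, polarBilin Q (b i) (b j) ≠ 0 := by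
    intro i
    by_contra hc
    push Not at hc
    exact b.ne_zero i (hN.1 _ fun y => by
      rw [← b.sum_repr y, map_sum]
      simp [map_smul, hc])
  have huniq : ∀ i j k, polarBilin Q (b i) (b j) ≠ 0 → polarBilin Q (b i) (b k) ≠ 0 → j = k := by
    intro i j k hj hk
    by_contra hne
    obtain ⟨x, hx, hxne⟩ := hdist j k hne
    have h1 := hBB i j x hx hj
    have h3 := hBB i k x hx hk
    refine hxne ?_
    have h0 : χ i x ≠ 0 := fun h0 => by rw [h0, zero_mul] at h1; exact zero_ne_one h1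
    exact mul_left_cancel₀ h0 (h1.trans h3.symm)
  choose π hπ using hpart
  have hπ2 : ∀ i, π (π i) = i := fun i =>
    huniq (π i) _ _ (hπ (π i)) (by rw [quad_polar_comm]; exact hπ i)
  obtain ⟨i₀, hi₀⟩ := exists_fixed π hπ2 hodd
  have hdiag : ∀ i, polarBilin Q (b i) (b i) ≠ 0 := by
    intro i
    obtain ⟨h, hh, c, hc⟩ := htrans i₀ i
    have h1 := Orth.iso_polar (hiso h hh) (b i₀) (b i₀)
    rw [hc, map_smul, map_smul, LinearMap.smul_apply] at h1
    intro h0
    rw [h0, smul_zero, smul_zero] at h1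
    have h3 := hπ i₀
    rw [hi₀] at h3
    exact h3 h1.symm
  have horth : ∀ i j, i ≠ j → polarBilin Q (b i) (b j) = 0 := fun i j hij => by
    by_contra h
    exact hij (huniq i i j (hdiag i) h)
  have hQb : ∀ i, Q (b i) ≠ 0 := fun i h0 => hdiag i (by rw [quad_polar_self, h0, mul_zero])
  by_cases hp : (Fintype.card F).Prime
  · left
    refine ⟨hp, ?_⟩
    let e : Fin t ≃ ι := (finCongr ht).trans (Fintype.equivFin ι).symm
    let D : Fin t → Submodule F (ι → F) := fun k => F ∙ b (e k)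
    have hD : ∀ k, finrank F (D k) = 1 := fun k => finrank_span_singleton (b.ne_zero _)
    have hmapD : ∀ g ∈ H, ∀ k l, ∀ c : F, (g : Matrix ι ι F) *ᵥ b (e k) = c • b (e l) →
        (D k).map (Matrix.toLin' (g : Matrix ι ι F)) = D l := by
      intro g hg k l c hc
      refine Submodule.eq_of_le_of_finrank_eq ?_ ?_
      · rintro _ ⟨w, hw, rfl⟩
        obtain ⟨d, rfl⟩ := Submodule.mem_span_singleton.mp hw
        rw [Matrix.toLin'_apply, Matrix.mulVec_smul, hc]
        exact Submodule.smul_mem _ _ (Submodule.smul_mem _ _ (Submodule.mem_span_singleton_self _))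
      · rw [hD l]
        refine ((Submodule.equivMapOfInjective _ (fun a c' hac => ?_) (D k)).finrank_eq).symm.trans (hD k)
        exact Cfsg.Agent.Lib.KnownA.PrimeDim.mulVec_injective g (by
          simpa [Matrix.toLin'_apply] using hac)
    refine ⟨D, ⟨⟨⟨by omega, one_pos, hD, ?_, ?_⟩, fun k => ?_, fun k l hkl => ?_⟩, fun k l => ?_⟩,
      OrthProper.eq_inf_of_le hH (fun g hg => ?_) (OrthProper.not_le_decompositionStabilizer hN h2 h7 ht D hD)⟩
    · exact (b.linearIndependent.comp e e.injective).iSupIndep_span_singleton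
    · rw [← Submodule.span_range_eq_iSup, show (fun k => b (e k)) = b ∘ e from rfl, e.surjective.range_comp b, b.span_eq]
    · intro w hw hw0
      obtain ⟨d, rfl⟩ := Submodule.mem_span_singleton.mp hw
      have hd0 : d ≠ 0 := fun h => hw0 (by rw [h, zero_smul])
      have hne : polarBilin Q (b (e k)) (d • b (e k)) ≠ 0 := by
        rw [map_smul, smul_eq_mul]
        exact mul_ne_zero hd0 (hdiag _)
      refine ⟨⟨b (e k), Submodule.mem_span_singleton_self _, ?_⟩, b (e k), Submodule.mem_span_singleton_self _, ?_⟩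
      · rwa [← polarBilin_apply_apply]
      · rw [QuadraticMap.polar_comm, ← polarBilin_apply_apply]; exact hne
    · intro u hu w hw
      obtain ⟨c, rfl⟩ := Submodule.mem_span_singleton.mp hu
      obtain ⟨d, rfl⟩ := Submodule.mem_span_singleton.mp hw
      rw [← polarBilin_apply_apply, map_smul, map_smul, LinearMap.smul_apply,
        horth _ _ (fun h => hkl (e.injective h)), smul_zero, smul_zero]
    · obtain ⟨g, hg, c, hc⟩ := htrans (e k) (e l)
      have hmaps : ∀ w ∈ D k, Matrix.toLin' (g : Matrix ι ι F) w ∈ D l := fun w hw =>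
        hmapD g hg k l c hc ▸ ⟨w, hw, rfl⟩
      let f := (Matrix.toLin' (g : Matrix ι ι F)).restrict hmaps
      have hf : Function.Injective f := fun a c' hac => Subtype.ext
        (Cfsg.Agent.Lib.KnownA.PrimeDim.mulVec_injective g (by
          have := congrArg Subtype.val hac
          simpa [f, Matrix.toLin'_apply] using this))
      refine ⟨LinearEquiv.ofBijective f ⟨hf,
        (LinearMap.injective_iff_surjective_of_finrank_eq_finrank (by rw [hD, hD])).mp hf⟩, fun w => ?_⟩
      show Q (Matrix.toLin' (g : Matrix ι ι F) (w : ι → F)) = Q w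
      rw [Matrix.toLin'_apply, Orth.iso_quad (hiso g hg)]
    · choose σ c hσ using fun k => hmon g hg (e k)
      have hinj : Function.Injective σ := by
        intro k l hkl
        by_contra hne
        have h1 := hσ k
        have h3 := hσ l
        rw [← hkl] at h3
        have h4 := Orth.iso_polar (hiso g hg) (b (e k)) (b (e l))
        rw [h1, h3, horth _ _ (fun h => hne (e.injective h)), map_smul, map_smul, LinearMap.smul_apply,
          smul_eq_mul, smul_eq_mul] at h4
        rcases mul_eq_zero.mp h4 with h | h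
        · exact OrthCore.mulVec_ne_zero g (b.ne_zero (e l)) (by rw [h3, h, zero_smul])
        rcases mul_eq_zero.mp h with h | h
        · exact OrthCore.mulVec_ne_zero g (b.ne_zero (e k)) (by rw [h1, h, zero_smul])
        · exact hdiag _ h
      refine ⟨Equiv.ofBijective (fun k => e.symm (σ k))
        (Finite.injective_iff_bijective.mp (e.symm.injective.comp hinj)), fun k => ?_⟩
      exact hmapD g hg k _ (c k) (by simpa using hσ k)
  · right
    obtain ⟨k, hk⟩ := hodd
    choose h hh c hc using htrans i₀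
    set a := Q (b i₀) with ha
    let v : ι → (ι → F) := fun j => c j • b j
    have hv : ∀ j, (h j : Matrix ι ι F) *ᵥ b i₀ = v j := hc
    have hc0 : ∀ j, c j ≠ 0 := fun j h0 =>
      OrthCore.mulVec_ne_zero (h j) (b.ne_zero i₀) (by rw [hc, h0, zero_smul])
    have hQv : ∀ j, Q (v j) = a := fun j => by rw [← hv, Orth.iso_quad (hiso _ (hh j))]
    have hBv : ∀ i j, polarBilin Q (v i) (v j) = if i = j then 2 * a else 0 := by
      intro i j
      by_cases hij : i = j
      · subst hij; rw [if_pos rfl, quad_polar_self, hQv]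
      · rw [if_neg hij, map_smul, map_smul, LinearMap.smul_apply, horth i j hij, smul_zero, smul_zero]
    let M₀ : Matrix ι ι F := Matrix.of fun r j => v j r
    have hM₀ : ∀ j, M₀ *ᵥ Pi.single j 1 = v j := fun j => by
      rw [Matrix.mulVec_single_one]; rfl
    have hNQ := nondegenerateForm hN
    have hform := FormDescent.form_eq (RingHom.id F) (QuadraticMap.polar ⇑Q) hNQ.polar_bilinear.add_left
      hNQ.polar_bilinear.smul_left hNQ.polar_bilinear.add_right hNQ.polar_bilinear.smul_right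
    set G := Cfsg.Geo.gramMatrix (QuadraticMap.polar ⇑Q) with hG
    have hGram : M₀ᵀ * G * M₀ = (2 * a) • (1 : Matrix ι ι F) := by
      ext i j
      have h1 := FormDescent.gram_congr (RingHom.id F) (QuadraticMap.polar ⇑Q) hform M₀ (Pi.single i 1)
        (Pi.single j 1)
      rw [hM₀, hM₀, ← polarBilin_apply_apply, hBv, show M₀.map (RingHom.id F) = M₀ by ext; rfl,
        show (RingHom.id F) ∘ Pi.single j (1 : F) = Pi.single j 1 from rfl,
        Matrix.mulVec_single_one, single_one_dotProduct] at h1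
      rw [Matrix.smul_apply, Matrix.one_apply, smul_eq_mul, mul_ite, mul_one, mul_zero]
      exact h1.symm
    have hdet : M₀.det * G.det * M₀.det = (2 * a) ^ Fintype.card ι := by
      have h3 := congrArg Matrix.det hGram
      rwa [Matrix.det_mul, Matrix.det_mul, Matrix.det_transpose, Matrix.det_smul, Matrix.det_one, mul_one] at h3
    have h2a : 2 * a ≠ 0 := mul_ne_zero h2 (hQb i₀)
    have hM0 : M₀.det ≠ 0 := fun h0 => pow_ne_zero (Fintype.card ι) h2a (by rw [← hdet, h0, mul_zero])
    set μ : F := (2 * a) ^ k / M₀.det with hμ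
    have hμ0 : μ ≠ 0 := div_ne_zero (pow_ne_zero _ h2a) hM0
    have hμa : μ * μ * (2 * a) = G.det := by
      rw [hk] at hdet
      rw [hμ, div_mul_div_comm, div_mul_eq_mul_div, div_eq_iff (mul_ne_zero hM0 hM0)]
      linear_combination -hdet
    obtain ⟨F₀, r, -, hr, hcard⟩ := FormDescent.exists_prime_index (F₀ := (⊥ : Subfield F)) (fun h0 => by
      obtain ⟨p, hpc⟩ := CharP.exists F
      haveI : Fact p.Prime := ⟨CharP.char_is_prime F p⟩
      have h1 : Nat.card (⊥ : Subfield F) = p := Subfield.card_bot F p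
      rw [h0, Nat.card_congr (Subfield.topEquiv (K := F)).toEquiv, Nat.card_eq_fintype_card] at h1
      exact hp (h1 ▸ Fact.out))
    have hPdet : (μ • M₀).det ≠ 0 := by
      rw [Matrix.det_smul]; exact mul_ne_zero (pow_ne_zero _ hμ0) hM0
    let P : GL ι F := Matrix.GeneralLinearGroup.mkOfDetNeZero (μ • M₀) hPdet
    have hP : (P : Matrix ι ι F) = μ • M₀ := rfl
    have hF₀ne : F₀ ≠ ⊤ := fun he => by
      rw [he, Nat.card_congr (Subfield.topEquiv (K := F)).toEquiv] at hcard
      exact hr.ne_one (Nat.pow_right_injective (Finite.one_lt_card (α := F)) (by simpa using hcard.symm))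
    refine ⟨F₀, r, P, hr, by rw [← Nat.card_eq_fintype_card]; exact hcard, fun u hu => ?_,
      OrthProper.eq_inf_of_le hH (fun g hg => ?_) (OrthProper.not_le_subfieldSubgroup hN h2 h7 hF₀ne P)⟩
    · have hval : Q ((P : Matrix ι ι F) *ᵥ u) = G.det / 2 * ∑ j, u j * u j := by
        have h1 := FormDescent.gram_congr (RingHom.id F) (QuadraticMap.polar ⇑Q) hform M₀ u u
        rw [show M₀.map (RingHom.id F) = M₀ by ext; rfl, ← hG, hGram,
          show (RingHom.id F) ∘ u = u from rfl, Matrix.smul_mulVec, Matrix.one_mulVec, dotProduct_smul,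
          ← polarBilin_apply_apply, quad_polar_self, smul_eq_mul] at h1
        rw [hP, Matrix.smul_mulVec, quad_smul, ← hμa, show ∑ j, u j * u j = u ⬝ᵥ u from rfl]
        have h3 : Q (M₀ *ᵥ u) = a * (u ⬝ᵥ u) := mul_left_cancel₀ h2 (by rw [h1, mul_assoc])
        rw [h3, eq_comm, div_mul_eq_mul_div, div_eq_iff h2]
        ring
      rw [hval]
      exact F₀.mul_mem (F₀.div_mem (hd F₀) (natCast_mem F₀ 2)) (F₀.sum_mem fun j _ => F₀.mul_mem (hu j) (hu j))
    · have hent : ∀ i j, ((P⁻¹ * g * P : GL ι F) : Matrix ι ι F) i j ∈ F₀ := by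
        intro i j
        obtain ⟨l, d, hd'⟩ := hmon g hg j
        set ε : F := c j * d / c l with hε
        have hgv : (g : Matrix ι ι F) *ᵥ v j = ε • v l := by
          simp only [v, Matrix.mulVec_smul, hd', smul_smul, hε]
          rw [div_mul_cancel₀ _ (hc0 l)]
        have hε2 : ε * ε = 1 := by
          have h1 := Orth.iso_quad (hiso g hg) (v j)
          rw [hgv, quad_smul, hQv, hQv] at h1
          exact (mul_eq_right₀ (hQb i₀)).mp h1
        have hεmem : ε ∈ F₀ := by
          rcases mul_self_eq_one_iff.mp hε2 with h1 | h1 <;> rw [h1]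
          · exact F₀.one_mem
          · exact F₀.neg_mem F₀.one_mem
        have hcol : ((P⁻¹ * g * P : GL ι F) : Matrix ι ι F) *ᵥ Pi.single j 1 = ε • Pi.single l 1 := by
          rw [Units.val_mul, Units.val_mul, ← Matrix.mulVec_mulVec, ← Matrix.mulVec_mulVec, hP,
            Matrix.smul_mulVec, hM₀, Matrix.mulVec_smul, hgv, smul_comm μ ε, ← hM₀, ← Matrix.smul_mulVec, ← hP,
            Matrix.mulVec_smul, Matrix.mulVec_mulVec, ← Units.val_mul, inv_mul_cancel, Units.val_one,
            Matrix.one_mulVec]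
        have h3 := congrFun hcol i
        rw [Matrix.mulVec_single_one, Pi.smul_apply, Pi.single_apply, smul_eq_mul, mul_ite, mul_one, mul_zero] at h3
        rw [show ((P⁻¹ * g * P : GL ι F) : Matrix ι ι F) i j = if i = l then ε else 0 from h3]
        split_ifs
        · exact hεmem
        · exact F₀.zero_mem
      let A : Matrix ι ι F₀ := Matrix.of fun i j => ⟨_, hent i j⟩
      have hA : A.map F₀.subtype = ((P⁻¹ * g * P : GL ι F) : Matrix ι ι F) := rfl
      have hAdet : A.det ≠ 0 := fun h0 => by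
        have h1 : (A.map F₀.subtype).det = 0 := by
          rw [← RingHom.mapMatrix_apply, ← RingHom.map_det, h0, map_zero]
        rw [hA] at h1
        exact (Matrix.GeneralLinearGroup.det_ne_zero _) h1
      refine ⟨Matrix.GeneralLinearGroup.map (F₀.subtype : F₀ →+* F)
        (Matrix.GeneralLinearGroup.mkOfDetNeZero A hAdet), Subgroup.mem_sup_left ⟨_, rfl⟩, ?_⟩
      rw [show Matrix.GeneralLinearGroup.map (F₀.subtype : F₀ →+* F)
        (Matrix.GeneralLinearGroup.mkOfDetNeZero A hAdet) = P⁻¹ * g * P from Units.ext hA]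
      simp only [MulEquiv.coe_toMonoidHom, MulAut.conj_apply]
      group

include hN in
/-- Every maximal subgroup of `Ω` in odd prime dimension at least seven is geometric or residual. -/
theorem maximal_cases [Fintype F] (h2 : (2 : F) ≠ 0) (hn : (Fintype.card ι).Prime) (h7 : 7 ≤ Fintype.card ι)
    (hd : ∀ F₀ : Subfield F, (Cfsg.Geo.gramMatrix (QuadraticMap.polar ⇑Q)).det ∈ F₀)
    {t : ℕ} (ht : t = Fintype.card ι)
    (H : Subgroup (GL ι F)) (hH : Cfsg.Geo.IsMaximalIn (Cfsg.Geo.omegaGL ⇑Q) H) :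
    (∃ W : Submodule F (ι → F), W ≠ ⊥ ∧ Cfsg.Geo.IsTotallySingularQuad (⇑Q) W ∧
      H = Cfsg.Geo.subspaceStabilizer W ⊓ Cfsg.Geo.omegaGL ⇑Q) ∨
    (∃ W : Submodule F (ι → F), W ≠ ⊥ ∧ Even (Module.finrank F W) ∧
      Cfsg.Geo.IsNondegenerateOn (QuadraticMap.polar ⇑Q) W ∧
      ¬ (Fintype.card F = 3 ∧ Module.finrank F W = 2 ∧ Cfsg.Geo.IsPlusTypeOn (⇑Q) W) ∧
      H = Cfsg.Geo.subspaceStabilizer W ⊓ Cfsg.Geo.omegaGL ⇑Q) ∨
    ((Fintype.card F).Prime ∧ ∃ D : Fin t → Submodule F (ι → F),
      Cfsg.Geo.IsOrthogonalMDecomposition (⇑Q) 1 D ∧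
      H = Cfsg.Geo.decompositionStabilizer D ⊓ Cfsg.Geo.omegaGL ⇑Q) ∨
    (∃ (F₀ : Subfield F) (r : ℕ) (P : GL ι F), r.Prime ∧ Fintype.card F = Nat.card F₀ ^ r ∧
      Cfsg.Geo.IsQuadFormRationalStructure (⇑Q) F₀ P ∧
      H = Cfsg.Geo.subfieldSubgroup F₀ P ⊓ Cfsg.Geo.omegaGL ⇑Q) ∨
    Cfsg.Geo.InOrthogonalResidualClass H := by
  haveI : Nonempty ι := Fintype.card_pos_iff.mp hn.pos
  have hodd : Odd (Fintype.card ι) := hn.odd_of_ne_two (by omega)
  by_cases hirr : Cfsg.Geo.ActsIrreducibly (Cfsg.Geo.matrixSet H)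
  swap
  · rw [Cfsg.Agent.Lib.KnownA.PrimeDim.actsIrreducibly_iff] at hirr
    push Not at hirr
    obtain ⟨W, hW, hb, ht'⟩ := hirr
    rcases OrthProper.reducible_case hN h2 h7 hodd hH hb ht' hW with h | h
    · exact Or.inl h
    · exact Or.inr (Or.inl h)
  have hH0 : H ≠ ⊥ := by
    rintro rfl
    obtain ⟨v, hv⟩ : ∃ v : ι → F, v ≠ 0 := ⟨Pi.single (Classical.arbitrary ι) 1, by simp⟩
    rcases (Cfsg.Agent.Lib.KnownA.PrimeDim.actsIrreducibly_iff _).mp hirr (F ∙ v) (fun x hx w hw => by
      rw [Subgroup.mem_bot] at hx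
      rwa [hx, Units.val_one, Matrix.one_mulVec]) with h | h
    · exact hv (Submodule.span_singleton_eq_bot.mp h)
    · have := finrank_span_singleton (K := F) hv
      rw [h, finrank_top, Module.finrank_fintype_fun_eq_card] at this
      omega
  obtain ⟨N, hNH, hN0, hnor, hmin⟩ := OrthCore.exists_minimal_normal hH0
  have hs : ∀ x ∈ N, x ∈ Cfsg.Geo.scalars ι F → x = 1 := fun x hx hxs =>
    OrthProper.scalar_eq_one hodd hN (hH.1.le (hNH hx)) hxs
  rcases OrthCore.trichotomy hn hirr hnor with hsc | ⟨b, χ, hχ, hdist, hmon, htrans⟩ | hNirr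
  · exact absurd ((Subgroup.eq_bot_iff_forall _).mpr fun x hx => hs x hx (hsc x hx)) hN0
  · rcases monomial_case hN h2 hn h7 hd ht hH hNH b χ hχ hdist hmon htrans with h | h
    · exact Or.inr (Or.inr (Or.inl h))
    · exact Or.inr (Or.inr (Or.inr (Or.inl h)))
  have hNiso : N ≤ Cfsg.isometryGroup F ⇑Q := fun x hx => Orth.omegaGL_le_isometry (hH.1.le (hNH hx))
  have hnab : ∃ x ∈ N, ∃ y ∈ N, x * y ≠ y * x := by
    by_contra hc
    push Not at hc
    exact OrthCore.no_abelian_irreducible hn hodd h2 Q hN hNiso hc hNirr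
  have habs := OrthCore.absolutely_irreducible hn hNirr hnab
  have hfix : Cfsg.Geo.FixesQuadForm (Cfsg.Geo.matrixSet N) ⇑Q := by
    rintro _ ⟨x, hx, rfl⟩ v
    exact Orth.iso_quad (hNiso hx) v
  have hNQ := nondegenerateForm hN
  right; right; right
  by_cases hreal : ∃ F₀ : Subfield F, F₀ ≠ ⊤ ∧ Cfsg.Geo.RealisableOver F₀ (Cfsg.Geo.matrixSet N)
  · left
    obtain ⟨F₀, h0, hR⟩ := hreal
    obtain ⟨F₁, r, h1, hr, hcard, hR1⟩ := FormDescent.exists_prime_index_realisable h0 hR
    obtain ⟨B', hB', hBn⟩ := FormDescent.exists_quad_structure hodd h2 hNQ (hd F₁) habs hfix hR1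
    exact ⟨F₁, r, B', hr, by rw [← Nat.card_eq_fintype_card]; exact hcard, hB',
      OrthProper.eq_inf_of_le hH (fun g hg => hBn g fun x hx => hnor g hg x hx)
        (OrthProper.not_le_subfieldSubgroup hN h2 h7 h1 B')⟩
  right
  push Not at hreal
  refine ⟨N, OrthCore.residual_core hn hNH hnor hmin hs hNirr hnab hreal, ?_⟩
  rintro ⟨σ, f, hf, hff⟩
  obtain ⟨F₀, h0, -, hR⟩ := FormDescent.realisable_of_unitary_quad hf hNQ habs hff hfix
  exact hreal F₀ h0 hR

end Cfsg.Agent.Lib.PrimeDim.OrthCases
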