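import Cfsg.Agent.Lib.PrimeDim.OrthCases

/-!
The standard odd-dimensional form in prime dimension.
-/

set_option autoImplicit false

namespace Cfsg.Agent.Lib.PrimeDim.OrthOddStd

open scoped MatrixGroups Matrix

variable {F : Type*} [Field F]

theorem quadFormOdd_mem {m : ℕ} (F₀ : Subfield F) {v : Unit ⊕ (Fin m ⊕ Fin m) → F} (hv : ∀ i, v i ∈ F₀) :
    Cfsg.quadFormOdd m F v ∈ F₀ :=
  F₀.add_mem (pow_mem (hv _) 2) (F₀.sum_mem fun _ _ => F₀.mul_mem (hv _) (hv _))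

theorem gram_det_mem {m : ℕ} (F₀ : Subfield F) :
    (Cfsg.Geo.gramMatrix (QuadraticMap.polar (Cfsg.quadFormOdd m F))).det ∈ F₀ := by
  refine Cfsg.Agent.Lib.PrimeDim.FormDescent.det_mem fun i j => ?_
  have hs : ∀ (i k : Unit ⊕ (Fin m ⊕ Fin m)), (Pi.single i 1 : Unit ⊕ (Fin m ⊕ Fin m) → F) k ∈ F₀ := by
    intro i k
    rw [Pi.single_apply]
    split_ifs
    · exact F₀.one_mem
    · exact F₀.zero_mem
  exact F₀.sub_mem (F₀.sub_mem (quadFormOdd_mem F₀ fun k => F₀.add_mem (hs i k) (hs j k))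
    (quadFormOdd_mem F₀ (hs i))) (quadFormOdd_mem F₀ (hs j))

theorem nondeg {m : ℕ} (h2 : (2 : F) ≠ 0) :
    Cfsg.Geo.IsNondegenerateQuadraticForm (Cfsg.quadFormOdd m F) := by
  have hpol : ∀ v w, QuadraticMap.polar (Cfsg.quadFormOdd m F) v w = 2 * v (.inl ()) * w (.inl ()) +
      ∑ i : Fin m, (v (.inr (.inl i)) * w (.inr (.inr i)) + w (.inr (.inl i)) * v (.inr (.inr i))) := by
    intro v w
    simp only [QuadraticMap.polar, Cfsg.quadFormOdd, Pi.add_apply, add_mul, mul_add, Finset.sum_add_distrib]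
    ring
  have hzero : ∀ v, (∀ w, QuadraticMap.polar (Cfsg.quadFormOdd m F) v w = 0) → v = 0 := by
    intro v hv
    funext i
    rcases i with ⟨⟩ | i | i
    · have := hv (Pi.single (.inl ()) 1)
      simpa [hpol, h2] using this
    · have := hv (Pi.single (.inr (.inr i)) 1)
      simpa [hpol, Pi.single_apply] using this
    · have := hv (Pi.single (.inr (.inl i)) 1)
      simpa [hpol, Pi.single_apply] using this
  refine ⟨fun c v => ?_, ⟨fun x y v => ?_, fun c x v => ?_, fun v x y => ?_, fun c v x => ?_⟩, fun v hv => ?_⟩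
  · simp only [Cfsg.quadFormOdd, Pi.smul_apply, smul_eq_mul, mul_add, Finset.mul_sum, mul_pow]
    exact congrArg _ (Finset.sum_congr rfl fun i _ => by ring)
  · simp only [hpol, Pi.add_apply, add_mul, mul_add, Finset.sum_add_distrib]
    ring
  · simp only [hpol, Pi.smul_apply, smul_eq_mul, mul_add, Finset.mul_sum, Finset.sum_add_distrib, mul_assoc,
      mul_left_comm _ c]
  · simp only [hpol, Pi.add_apply, add_mul, mul_add, Finset.sum_add_distrib]
    ring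
  · simp only [hpol, Pi.smul_apply, smul_eq_mul, mul_add, Finset.mul_sum, Finset.sum_add_distrib, mul_assoc,
      mul_left_comm _ c]
  · constructor
    · by_contra hc
      push Not at hc
      exact hv (hzero v fun w => by rw [QuadraticMap.polar_comm]; exact hc w)
    · by_contra hc
      push Not at hc
      exact hv (hzero v hc)

/-- The maximal subgroups of `Ω` of the standard form in prime dimension `2m + 1 ≥ 7`. -/
theorem maximal_cases [Fintype F] (hodd : Odd (Fintype.card F)) {m : ℕ} (hm : 3 ≤ m) {t : ℕ}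
    (ht : t = 2 * m + 1) (hp : t.Prime)
    (H : Subgroup (GL (Unit ⊕ (Fin m ⊕ Fin m)) F))
    (hH : Cfsg.Geo.IsMaximalIn (Cfsg.Geo.omegaGL (Cfsg.quadFormOdd m F)) H) :
    (∃ W : Submodule F (Unit ⊕ (Fin m ⊕ Fin m) → F), W ≠ ⊥ ∧
      Cfsg.Geo.IsTotallySingularQuad (Cfsg.quadFormOdd m F) W ∧
      H = Cfsg.Geo.subspaceStabilizer W ⊓ Cfsg.Geo.omegaGL (Cfsg.quadFormOdd m F)) ∨
    (∃ W : Submodule F (Unit ⊕ (Fin m ⊕ Fin m) → F), W ≠ ⊥ ∧ Even (Module.finrank F W) ∧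
      Cfsg.Geo.IsNondegenerateOn (QuadraticMap.polar (Cfsg.quadFormOdd m F)) W ∧
      ¬ (Fintype.card F = 3 ∧ Module.finrank F W = 2 ∧ Cfsg.Geo.IsPlusTypeOn (Cfsg.quadFormOdd m F) W) ∧
      H = Cfsg.Geo.subspaceStabilizer W ⊓ Cfsg.Geo.omegaGL (Cfsg.quadFormOdd m F)) ∨
    ((Fintype.card F).Prime ∧ ∃ D : Fin t → Submodule F (Unit ⊕ (Fin m ⊕ Fin m) → F),
      Cfsg.Geo.IsOrthogonalMDecomposition (Cfsg.quadFormOdd m F) 1 D ∧
      H = Cfsg.Geo.decompositionStabilizer D ⊓ Cfsg.Geo.omegaGL (Cfsg.quadFormOdd m F)) ∨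
    (∃ (F₀ : Subfield F) (r : ℕ) (P : GL (Unit ⊕ (Fin m ⊕ Fin m)) F), r.Prime ∧
      Fintype.card F = Nat.card F₀ ^ r ∧ Cfsg.Geo.IsQuadFormRationalStructure (Cfsg.quadFormOdd m F) F₀ P ∧
      H = Cfsg.Geo.subfieldSubgroup F₀ P ⊓ Cfsg.Geo.omegaGL (Cfsg.quadFormOdd m F)) ∨
    Cfsg.Geo.InOrthogonalResidualClass H := by
  have h2 : (2 : F) ≠ 0 := Ring.two_ne_zero fun h => Nat.not_even_iff_odd.mpr hodd
    (Nat.even_iff.mpr (FiniteField.even_card_of_char_two h))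
  have hd := gram_det_mem (F := F) (m := m)
  obtain ⟨Q, hQe, hN⟩ := Cfsg.Agent.Lib.MaxSub.Orth.exists_quadraticForm (nondeg (m := m) h2)
  rw [hQe] at hH hd ⊢
  have hcard : Fintype.card (Unit ⊕ (Fin m ⊕ Fin m)) = t := by simp; omega
  exact OrthCases.maximal_cases hN h2 (hcard.symm ▸ hp) (by omega) hd hcard.symm H hH

end Cfsg.Agent.Lib.PrimeDim.OrthOddStd
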